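import Cfsg.Agent.H621.Zer.Good

/-!
# Nine classes in characteristic two (helper621, for S4895)
-/

set_option autoImplicit false
set_option linter.unusedSectionVars false

namespace Cfsg.Agent.H621.Zer

open Matrix QuadraticMap Cfsg.Agent.ClassicalGeometry.Reflection

variable {F : Type} [Field F] {ι : Type} [Fintype ι] [DecidableEq ι] {Q : QuadraticForm F (ι → F)}

/-- an element with the given invariants -/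
def TwoEl (Q : QuadraticForm F (ι → F)) (t : ℕ × ℕ × ℕ) : Prop :=
  ∃ g : Cfsg.Omega F (⇑Q), 2 ∣ orderOf (QuotientGroup.mk g : Cfsg.POmega F (⇑Q)) ∧
    ((co g - 1) ^ 2).rank = t.1 ∧ ((co g - 1) ^ 3).rank = t.2.1 ∧ (co g ^ 3 - 1).rank = t.2.2

theorem two_distinct (h2 : (2 : F) = 0) (hQ : (polarBilin Q).Nondegenerate) (hn : 3 ≤ Fintype.card ι)
    (hs : ∃ u : ι → F, u ≠ 0 ∧ Q u = 0) {g h : Cfsg.Omega F (⇑Q)} {s t : ℕ × ℕ × ℕ}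
    (hg1 : ((co g - 1) ^ 2).rank = s.1) (hg2 : ((co g - 1) ^ 3).rank = s.2.1) (hg3 : (co g ^ 3 - 1).rank = s.2.2)
    (hh1 : ((co h - 1) ^ 2).rank = t.1) (hh2 : ((co h - 1) ^ 3).rank = t.2.1) (hh3 : (co h ^ 3 - 1).rank = t.2.2)
    (hc : IsConj (QuotientGroup.mk g : Cfsg.POmega F (⇑Q)) (QuotientGroup.mk h)) : s = t := by
  obtain ⟨P, P', e1, e2, e3⟩ := conj_of_isConj hQ hn hs hc
  have h11 : (-1 : F) = 1 := by linear_combination -h2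
  have hneg : ∀ X : Matrix ι ι F, -X = X := fun X => by
    rw [← one_smul F X, ← neg_smul, h11]
  have e4 : co h = P * co g * P' := by
    rcases e3 with e3 | e3
    · exact e3
    · rw [e3, hneg]
  refine Prod.ext ?_ (Prod.ext ?_ ?_)
  · rw [← hg1, ← hh1, e4, conj_sub_one e1, conj_pow e1 e2, rank_conj e2]
  · rw [← hg2, ← hh2, e4, conj_sub_one e1, conj_pow e1 e2, rank_conj e2]
  · rw [← hg3, ← hh3, e4, conj_pow e1 e2, conj_sub_one e1, rank_conj e2]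

theorem big_two_of (h2 : (2 : F) = 0) (hQ : (polarBilin Q).Nondegenerate)
    (hn : 3 ≤ Fintype.card ι) (hs : ∃ u : ι → F, u ≠ 0 ∧ Q u = 0) [Finite (Cfsg.POmega F (⇑Q))]
    [IsSimpleGroup (Cfsg.POmega F (⇑Q))] (hL : Cfsg.IsLieTypeChar 2 (Cfsg.POmega F (⇑Q)))
    (t : Fin 9 → ℕ × ℕ × ℕ) (ht : Function.Injective t) (h : ∀ i, TwoEl Q (t i)) :
    Cfsg.Agent.H504.Zeros.Big (Cfsg.POmega F (⇑Q)) := by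
  choose g h0 h1 h2' h3 using h
  exact big_of_inv Nat.prime_two hL (fun i => (QuotientGroup.mk (g i) : Cfsg.POmega F (⇑Q))) t ht
    (fun i j hc => two_distinct h2 hQ hn hs (h1 i) (h2' i) (h3 i) (h1 j) (h2' j) (h3 j) hc) h0

section Data

variable (D : Emb Q) (φ : ZMod 2 →+* F)

theorem twoEl_of [CharP F 2] (hQ : (polarBilin Q).Nondegenerate) (hn : 3 ≤ Fintype.card ι)
    (hs : ∃ u : ι → F, u ≠ 0 ∧ Q u = 0) {t : ℕ × ℕ × ℕ} (M : M7 (ZMod 2)) (hM : D.Good φ M)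
    (hr1 : ((M * GG * M).map φ).rank = t.1)
    (hr2 : ((M * GG * M * GG * M).map φ).rank = t.2.1)
    (hr3 : ((mm M (mm M M)).map φ).rank = t.2.2)
    (β : Fin 7 → ZMod 2) (h0 : M *ᵥ (GG *ᵥ (M *ᵥ β)) = 0) (k : Fin 7) (hk : (M *ᵥ β) k = 1) :
    TwoEl Q t := by
  obtain ⟨g, hg⟩ := hM
  have hX : co g = D.em (M.map φ) := hg
  have m : ∀ (U V : M7 (ZMod 2)), (U * V).map φ = U.map φ * V.map φ := fun U V => Matrix.map_mul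
  have e2 : co g - 1 = D.T * (M.map φ) * D.B := by rw [hX, D.em_sub_one]
  refine ⟨g, dvd_orderOf φ D hQ hn hs β h0 k (by rw [hk, map_one]; exact one_ne_zero) g hg, ?_, ?_, ?_⟩
  · rw [e2, pow_two, D.TB_mul, D.rank_eq hQ, ← hr1, m, m, GG_map]
  · rw [e2, pow_succ, pow_two, D.TB_mul, D.TB_mul, D.rank_eq hQ, ← hr2, m, m, m, m, GG_map]
  · have e3 : co g ^ 3 - 1 = D.T * ((mm M (mm M M)).map φ) * D.B := by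
      rw [hX, pow_succ', pow_two, D.em_mul, D.em_mul, D.em_sub_one, mm_map, mm_map]
    rw [e3, D.rank_eq hQ, hr3]

end Data

/-! ### The nine elements -/

section Elements

variable (D : Emb Q) (φ : ZMod 2 →+* F)

theorem rank_zero_of' {R : Type} [CommRing R] (φ : R →+* F) {N : M7 R} (h : N = 0) : (N.map φ).rank = 0 := by
  have h1 : (N.map φ) = 0 := by rw [h]; ext i j; simp
  rw [h1, Matrix.rank_zero]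

theorem rank_of_cert' {r : ℕ} {N : M7 (ZMod 2)} (X : Matrix (Fin 7) (Fin r) (ZMod 2)) (Y : Matrix (Fin r) (Fin 7) (ZMod 2))
    (L : Matrix (Fin r) (Fin 7) (ZMod 2)) (S : Matrix (Fin 7) (Fin r) (ZMod 2)) (h1 : X * Y = N) (h2 : L * X = 1)
    (h3 : Y * S = 1) : (N.map φ).rank = r :=
  rank_of_cert φ X Y L S (a := 1) (b := 1) (c := 1) (by rw [map_one]; exact one_ne_zero)
    (by rw [map_one]; exact one_ne_zero) (by rw [map_one]; exact one_ne_zero) (by rw [one_smul, h1])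
    (by rw [one_smul, h2]) (by rw [one_smul, h3])

def Z0 : M7 (ZMod 2) := !![0, 0, 0, 0, 0, 0, 0; 0, 0, 0, 0, 0, 0, 0; 0, 0, 0, 0, 0, 0, 0; 0, 0, 0, 0, 0, 0, 0; 0, 0, 0, 0, 1, 0, 1; 0, 0, 0, 0, 0, 0, 0; 0, 0, 0, 0, 1, 0, 0]

theorem Z0_good (hP : ∀ (u v : ι → F) (hu : Q u ≠ 0) (hv : Q v ≠ 0), Q u = Q v →
    reflIso Q u hu * reflIso Q v hv ∈ Cfsg.Omega F (⇑Q)) : D.Good φ Z0 := by
  have h : Z0 = (mm (Mr ![0, 0, 0, 0, 1, 0, 1]) (Mr ![0, 0, 0, 0, 0, 0, 1])) := by decide +kernel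
  rw [h]
  exact (D.good_pair φ hP ![0, 0, 0, 0, 1, 0, 1] ![0, 0, 0, 0, 0, 0, 1] (by decide) (by decide))

theorem Z0_r1 : ((Z0 * GG * Z0).map φ).rank = 0 :=
  rank_zero_of' φ (by decide +kernel)

theorem Z0_r2 : ((Z0 * GG * Z0 * GG * Z0).map φ).rank = 0 :=
  rank_zero_of' φ (by decide +kernel)

theorem Z0_r3 : ((mm Z0 (mm Z0 Z0)).map φ).rank = 2 :=
  rank_of_cert' φ (r := 2)
    !![0, 0; 0, 0; 0, 0; 0, 0; 1, 1; 0, 0; 1, 0]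
    !![0, 0, 0, 0, 1, 0, 0; 0, 0, 0, 0, 0, 0, 1]
    !![0, 0, 0, 0, 0, 0, 1; 0, 0, 0, 0, 1, 0, 1]
    !![0, 0; 0, 0; 0, 0; 0, 0; 1, 0; 0, 0; 0, 1]
    (by decide +kernel) (by decide +kernel) (by decide +kernel)

include D φ in
theorem Z0_el [CharP F 2] (hP : ∀ (u v : ι → F) (hu : Q u ≠ 0) (hv : Q v ≠ 0), Q u = Q v →
    reflIso Q u hu * reflIso Q v hv ∈ Cfsg.Omega F (⇑Q)) (hQ : (polarBilin Q).Nondegenerate) (hn : 3 ≤ Fintype.card ι)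
    (hs : ∃ u : ι → F, u ≠ 0 ∧ Q u = 0) : TwoEl Q (0, 0, 2) :=
  twoEl_of D φ hQ hn hs Z0 (Z0_good D φ hP) (Z0_r1 φ) (Z0_r2 φ) (Z0_r3 φ) ![0, 0, 0, 0, 0, 0, 1] (by decide +kernel) 4 (by decide +kernel)

def Z1 : M7 (ZMod 2) := !![1, 1, 0, 1, 0, 0, 0; 1, 1, 0, 1, 0, 0, 0; 0, 0, 0, 0, 0, 0, 0; 1, 1, 0, 0, 0, 0, 1; 0, 0, 0, 0, 1, 0, 1; 0, 0, 0, 0, 0, 0, 0; 0, 0, 0, 1, 1, 0, 1]

theorem Z1_good (hP : ∀ (u v : ι → F) (hu : Q u ≠ 0) (hv : Q v ≠ 0), Q u = Q v →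
    reflIso Q u hu * reflIso Q v hv ∈ Cfsg.Omega F (⇑Q)) : D.Good φ Z1 := by
  have h : Z1 = (mm (mm (Mr ![1, 1, 0, 1, 0, 0, 0]) (Mr ![0, 0, 0, 0, 1, 0, 1])) (mm (Mr ![0, 0, 0, 1, 0, 0, 1]) (Mr ![0, 0, 0, 0, 0, 0, 1]))) := by decide +kernel
  rw [h]
  exact (Emb.Good.mul φ D (D.good_pair φ hP ![1, 1, 0, 1, 0, 0, 0] ![0, 0, 0, 0, 1, 0, 1] (by decide) (by decide)) (D.good_pair φ hP ![0, 0, 0, 1, 0, 0, 1] ![0, 0, 0, 0, 0, 0, 1] (by decide) (by decide)))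

theorem Z1_r1 : ((Z1 * GG * Z1).map φ).rank = 0 :=
  rank_zero_of' φ (by decide +kernel)

theorem Z1_r2 : ((Z1 * GG * Z1 * GG * Z1).map φ).rank = 0 :=
  rank_zero_of' φ (by decide +kernel)

theorem Z1_r3 : ((mm Z1 (mm Z1 Z1)).map φ).rank = 4 :=
  rank_of_cert' φ (r := 4)
    !![1, 1, 0, 0; 1, 1, 0, 0; 0, 0, 0, 0; 1, 0, 0, 1; 0, 0, 1, 1; 0, 0, 0, 0; 0, 1, 1, 1]
    !![1, 1, 0, 0, 0, 0, 0; 0, 0, 0, 1, 0, 0, 0; 0, 0, 0, 0, 1, 0, 0; 0, 0, 0, 0, 0, 0, 1]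
    !![1, 0, 0, 0, 1, 0, 1; 0, 0, 0, 0, 1, 0, 1; 1, 0, 0, 1, 0, 0, 1; 1, 0, 0, 1, 1, 0, 1]
    !![1, 0, 0, 0; 0, 0, 0, 0; 0, 0, 0, 0; 0, 1, 0, 0; 0, 0, 1, 0; 0, 0, 0, 0; 0, 0, 0, 1]
    (by decide +kernel) (by decide +kernel) (by decide +kernel)

include D φ in
theorem Z1_el [CharP F 2] (hP : ∀ (u v : ι → F) (hu : Q u ≠ 0) (hv : Q v ≠ 0), Q u = Q v →
    reflIso Q u hu * reflIso Q v hv ∈ Cfsg.Omega F (⇑Q)) (hQ : (polarBilin Q).Nondegenerate) (hn : 3 ≤ Fintype.card ι)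
    (hs : ∃ u : ι → F, u ≠ 0 ∧ Q u = 0) : TwoEl Q (0, 0, 4) :=
  twoEl_of D φ hQ hn hs Z1 (Z1_good D φ hP) (Z1_r1 φ) (Z1_r2 φ) (Z1_r3 φ) ![0, 0, 0, 0, 0, 0, 1] (by decide +kernel) 3 (by decide +kernel)

def Z2 : M7 (ZMod 2) := !![1, 1, 1, 1, 0, 1, 1; 1, 1, 1, 1, 0, 1, 1; 1, 1, 0, 0, 0, 1, 1; 1, 1, 0, 0, 0, 0, 1; 0, 0, 0, 0, 0, 0, 0; 0, 0, 1, 0, 0, 1, 1; 1, 1, 1, 1, 0, 0, 1]

theorem Z2_good (hP : ∀ (u v : ι → F) (hu : Q u ≠ 0) (hv : Q v ≠ 0), Q u = Q v →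
    reflIso Q u hu * reflIso Q v hv ∈ Cfsg.Omega F (⇑Q)) : D.Good φ Z2 := by
  have h : Z2 = (mm (mm (Mr ![0, 0, 1, 0, 0, 0, 1]) (Mr ![1, 1, 0, 1, 0, 0, 0])) (mm (Mr ![0, 0, 0, 1, 0, 0, 1]) (Mr ![0, 0, 1, 0, 0, 1, 1]))) := by decide +kernel
  rw [h]
  exact (Emb.Good.mul φ D (D.good_pair φ hP ![0, 0, 1, 0, 0, 0, 1] ![1, 1, 0, 1, 0, 0, 0] (by decide) (by decide)) (D.good_pair φ hP ![0, 0, 0, 1, 0, 0, 1] ![0, 0, 1, 0, 0, 1, 1] (by decide) (by decide)))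

theorem Z2_r1 : ((Z2 * GG * Z2).map φ).rank = 2 :=
  rank_of_cert' φ (r := 2)
    !![0, 1; 0, 1; 0, 0; 0, 0; 0, 0; 1, 0; 0, 1]
    !![1, 1, 0, 0, 0, 0, 1; 0, 0, 0, 0, 0, 1, 0]
    !![0, 0, 0, 0, 0, 1, 0; 1, 0, 0, 0, 0, 0, 0]
    !![1, 0; 0, 0; 0, 0; 0, 0; 0, 0; 0, 1; 0, 0]
    (by decide +kernel) (by decide +kernel) (by decide +kernel)

theorem Z2_r2 : ((Z2 * GG * Z2 * GG * Z2).map φ).rank = 0 :=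
  rank_zero_of' φ (by decide +kernel)

theorem Z2_r3 : ((mm Z2 (mm Z2 Z2)).map φ).rank = 4 :=
  rank_of_cert' φ (r := 4)
    !![1, 1, 1, 0; 1, 1, 1, 0; 1, 0, 0, 1; 1, 0, 0, 0; 0, 0, 0, 0; 1, 1, 0, 1; 1, 1, 1, 1]
    !![1, 1, 0, 0, 0, 0, 1; 0, 0, 1, 0, 0, 0, 1; 0, 0, 0, 1, 0, 0, 1; 0, 0, 0, 0, 0, 1, 0]
    !![0, 0, 0, 1, 0, 0, 0; 0, 0, 1, 0, 0, 1, 0; 1, 0, 1, 1, 0, 1, 0; 0, 0, 1, 1, 0, 0, 0]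
    !![1, 0, 0, 0; 0, 0, 0, 0; 0, 1, 0, 0; 0, 0, 1, 0; 0, 0, 0, 0; 0, 0, 0, 1; 0, 0, 0, 0]
    (by decide +kernel) (by decide +kernel) (by decide +kernel)

include D φ in
theorem Z2_el [CharP F 2] (hP : ∀ (u v : ι → F) (hu : Q u ≠ 0) (hv : Q v ≠ 0), Q u = Q v →
    reflIso Q u hu * reflIso Q v hv ∈ Cfsg.Omega F (⇑Q)) (hQ : (polarBilin Q).Nondegenerate) (hn : 3 ≤ Fintype.card ι)
    (hs : ∃ u : ι → F, u ≠ 0 ∧ Q u = 0) : TwoEl Q (2, 0, 4) :=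
  twoEl_of D φ hQ hn hs Z2 (Z2_good D φ hP) (Z2_r1 φ) (Z2_r2 φ) (Z2_r3 φ) ![0, 0, 0, 1, 0, 0, 0] (by decide +kernel) 0 (by decide +kernel)

def Z3 : M7 (ZMod 2) := !![1, 0, 0, 0, 0, 0, 1; 0, 0, 0, 1, 0, 0, 0; 0, 0, 0, 0, 0, 0, 0; 1, 1, 0, 1, 0, 0, 0; 0, 0, 0, 0, 0, 0, 0; 0, 0, 0, 0, 0, 0, 0; 1, 0, 0, 1, 0, 0, 0]

theorem Z3_good (hP : ∀ (u v : ι → F) (hu : Q u ≠ 0) (hv : Q v ≠ 0), Q u = Q v →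
    reflIso Q u hu * reflIso Q v hv ∈ Cfsg.Omega F (⇑Q)) : D.Good φ Z3 := by
  have h : Z3 = (mm (mm (Mr ![1, 1, 0, 0, 0, 0, 0]) (Mr ![0, 0, 0, 0, 0, 0, 1])) (mm (Mr ![1, 0, 0, 1, 0, 0, 1]) (Mr ![0, 1, 0, 0, 0, 0, 1]))) := by decide +kernel
  rw [h]
  exact (Emb.Good.mul φ D (D.good_pair φ hP ![1, 1, 0, 0, 0, 0, 0] ![0, 0, 0, 0, 0, 0, 1] (by decide) (by decide)) (D.good_pair φ hP ![1, 0, 0, 1, 0, 0, 1] ![0, 1, 0, 0, 0, 0, 1] (by decide) (by decide)))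

theorem Z3_r1 : ((Z3 * GG * Z3).map φ).rank = 2 :=
  rank_of_cert' φ (r := 2)
    !![0, 1; 0, 0; 0, 0; 1, 1; 0, 0; 0, 0; 0, 1]
    !![1, 0, 0, 0, 0, 0, 1; 0, 0, 0, 1, 0, 0, 0]
    !![1, 0, 0, 1, 0, 0, 0; 1, 0, 0, 0, 0, 0, 0]
    !![1, 0; 0, 0; 0, 0; 0, 1; 0, 0; 0, 0; 0, 0]
    (by decide +kernel) (by decide +kernel) (by decide +kernel)

theorem Z3_r2 : ((Z3 * GG * Z3 * GG * Z3).map φ).rank = 1 :=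
  rank_of_cert' φ (r := 1)
    !![0; 0; 0; 1; 0; 0; 0]
    !![0, 0, 0, 1, 0, 0, 0]
    !![0, 0, 0, 1, 0, 0, 0]
    !![0; 0; 0; 1; 0; 0; 0]
    (by decide +kernel) (by decide +kernel) (by decide +kernel)

theorem Z3_r3 : ((mm Z3 (mm Z3 Z3)).map φ).rank = 4 :=
  rank_of_cert' φ (r := 4)
    !![1, 0, 1, 1; 0, 0, 1, 0; 0, 0, 0, 0; 0, 1, 1, 1; 0, 0, 0, 0; 0, 0, 0, 0; 1, 0, 0, 0]
    !![1, 0, 0, 0, 0, 0, 0; 0, 1, 0, 0, 0, 0, 0; 0, 0, 0, 1, 0, 0, 0; 0, 0, 0, 0, 0, 0, 1]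
    !![0, 0, 0, 0, 0, 0, 1; 1, 0, 0, 1, 0, 0, 1; 0, 1, 0, 0, 0, 0, 0; 1, 1, 0, 0, 0, 0, 1]
    !![1, 0, 0, 0; 0, 1, 0, 0; 0, 0, 0, 0; 0, 0, 1, 0; 0, 0, 0, 0; 0, 0, 0, 0; 0, 0, 0, 1]
    (by decide +kernel) (by decide +kernel) (by decide +kernel)

include D φ in
theorem Z3_el [CharP F 2] (hP : ∀ (u v : ι → F) (hu : Q u ≠ 0) (hv : Q v ≠ 0), Q u = Q v →
    reflIso Q u hu * reflIso Q v hv ∈ Cfsg.Omega F (⇑Q)) (hQ : (polarBilin Q).Nondegenerate) (hn : 3 ≤ Fintype.card ι)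
    (hs : ∃ u : ι → F, u ≠ 0 ∧ Q u = 0) : TwoEl Q (2, 1, 4) :=
  twoEl_of D φ hQ hn hs Z3 (Z3_good D φ hP) (Z3_r1 φ) (Z3_r2 φ) (Z3_r3 φ) ![0, 1, 0, 0, 0, 0, 0] (by decide +kernel) 3 (by decide +kernel)

def Z4 : M7 (ZMod 2) := !![0, 0, 0, 0, 0, 0, 0; 0, 1, 0, 0, 0, 0, 1; 0, 0, 0, 0, 0, 0, 0; 0, 0, 0, 0, 0, 0, 0; 0, 0, 0, 0, 1, 1, 0; 0, 0, 0, 0, 0, 1, 1; 0, 1, 0, 0, 1, 0, 1]

theorem Z4_good (hP : ∀ (u v : ι → F) (hu : Q u ≠ 0) (hv : Q v ≠ 0), Q u = Q v →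
    reflIso Q u hu * reflIso Q v hv ∈ Cfsg.Omega F (⇑Q)) : D.Good φ Z4 := by
  have h : Z4 = (mm (mm (Mr ![0, 0, 0, 0, 1, 1, 0]) (Mr ![0, 0, 0, 0, 0, 0, 1])) (mm (Mr ![0, 1, 0, 0, 0, 0, 1]) (Mr ![0, 0, 0, 0, 1, 0, 1]))) := by decide +kernel
  rw [h]
  exact (Emb.Good.mul φ D (D.good_pair φ hP ![0, 0, 0, 0, 1, 1, 0] ![0, 0, 0, 0, 0, 0, 1] (by decide) (by decide)) (D.good_pair φ hP ![0, 1, 0, 0, 0, 0, 1] ![0, 0, 0, 0, 1, 0, 1] (by decide) (by decide)))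

theorem Z4_r1 : ((Z4 * GG * Z4).map φ).rank = 2 :=
  rank_of_cert' φ (r := 2)
    !![0, 0; 0, 0; 0, 0; 0, 0; 1, 0; 1, 1; 0, 1]
    !![0, 0, 0, 0, 1, 0, 1; 0, 0, 0, 0, 0, 1, 1]
    !![0, 0, 0, 0, 1, 0, 0; 0, 0, 0, 0, 1, 1, 0]
    !![0, 0; 0, 0; 0, 0; 0, 0; 1, 0; 0, 1; 0, 0]
    (by decide +kernel) (by decide +kernel) (by decide +kernel)

theorem Z4_r2 : ((Z4 * GG * Z4 * GG * Z4).map φ).rank = 2 :=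
  rank_of_cert' φ (r := 2)
    !![0, 0; 0, 0; 0, 0; 0, 0; 0, 1; 1, 0; 1, 1]
    !![0, 0, 0, 0, 1, 0, 1; 0, 0, 0, 0, 0, 1, 1]
    !![0, 0, 0, 0, 0, 1, 0; 0, 0, 0, 0, 1, 0, 0]
    !![0, 0; 0, 0; 0, 0; 0, 0; 1, 0; 0, 1; 0, 0]
    (by decide +kernel) (by decide +kernel) (by decide +kernel)

theorem Z4_r3 : ((mm Z4 (mm Z4 Z4)).map φ).rank = 2 :=
  rank_of_cert' φ (r := 2)
    !![0, 0; 1, 1; 0, 0; 0, 0; 0, 0; 0, 0; 1, 0]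
    !![0, 1, 0, 0, 0, 0, 0; 0, 0, 0, 0, 0, 0, 1]
    !![0, 0, 0, 0, 0, 0, 1; 0, 1, 0, 0, 0, 0, 1]
    !![0, 0; 1, 0; 0, 0; 0, 0; 0, 0; 0, 0; 0, 1]
    (by decide +kernel) (by decide +kernel) (by decide +kernel)

include D φ in
theorem Z4_el [CharP F 2] (hP : ∀ (u v : ι → F) (hu : Q u ≠ 0) (hv : Q v ≠ 0), Q u = Q v →
    reflIso Q u hu * reflIso Q v hv ∈ Cfsg.Omega F (⇑Q)) (hQ : (polarBilin Q).Nondegenerate) (hn : 3 ≤ Fintype.card ι)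
    (hs : ∃ u : ι → F, u ≠ 0 ∧ Q u = 0) : TwoEl Q (2, 2, 2) :=
  twoEl_of D φ hQ hn hs Z4 (Z4_good D φ hP) (Z4_r1 φ) (Z4_r2 φ) (Z4_r3 φ) ![0, 1, 0, 0, 0, 0, 0] (by decide +kernel) 1 (by decide +kernel)

def Z5 : M7 (ZMod 2) := !![0, 0, 1, 1, 0, 0, 1; 0, 0, 1, 1, 0, 0, 1; 0, 0, 1, 0, 0, 0, 1; 1, 1, 1, 1, 0, 0, 1; 0, 0, 0, 0, 1, 1, 0; 0, 0, 0, 0, 0, 1, 1; 0, 0, 1, 0, 1, 0, 1]

theorem Z5_good (hP : ∀ (u v : ι → F) (hu : Q u ≠ 0) (hv : Q v ≠ 0), Q u = Q v →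
    reflIso Q u hu * reflIso Q v hv ∈ Cfsg.Omega F (⇑Q)) : D.Good φ Z5 := by
  have h : Z5 = (mm (mm (Mr ![1, 1, 1, 1, 0, 0, 1]) (Mr ![0, 0, 0, 0, 1, 1, 0])) (mm (mm (Mr ![1, 1, 0, 1, 0, 0, 0]) (Mr ![1, 1, 0, 0, 0, 0, 0])) (mm (Mr ![0, 0, 0, 0, 0, 0, 1]) (Mr ![0, 0, 0, 0, 1, 0, 1])))) := by decide +kernel
  rw [h]
  exact (Emb.Good.mul φ D (D.good_pair φ hP ![1, 1, 1, 1, 0, 0, 1] ![0, 0, 0, 0, 1, 1, 0] (by decide) (by decide)) (Emb.Good.mul φ D (D.good_pair φ hP ![1, 1, 0, 1, 0, 0, 0] ![1, 1, 0, 0, 0, 0, 0] (by decide) (by decide)) (D.good_pair φ hP ![0, 0, 0, 0, 0, 0, 1] ![0, 0, 0, 0, 1, 0, 1] (by decide) (by decide))))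

theorem Z5_r1 : ((Z5 * GG * Z5).map φ).rank = 4 :=
  rank_of_cert' φ (r := 4)
    !![1, 0, 0, 0; 1, 0, 0, 0; 1, 1, 0, 0; 1, 0, 0, 0; 0, 0, 1, 0; 0, 0, 1, 1; 1, 1, 0, 1]
    !![1, 1, 0, 1, 0, 0, 0; 0, 0, 1, 0, 0, 0, 1; 0, 0, 0, 0, 1, 0, 1; 0, 0, 0, 0, 0, 1, 1]
    !![1, 0, 0, 0, 0, 0, 0; 1, 0, 1, 0, 0, 0, 0; 0, 0, 0, 0, 1, 0, 0; 0, 0, 0, 0, 1, 1, 0]
    !![1, 0, 0, 0; 0, 0, 0, 0; 0, 1, 0, 0; 0, 0, 0, 0; 0, 0, 1, 0; 0, 0, 0, 1; 0, 0, 0, 0]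
    (by decide +kernel) (by decide +kernel) (by decide +kernel)

theorem Z5_r2 : ((Z5 * GG * Z5 * GG * Z5).map φ).rank = 4 :=
  rank_of_cert' φ (r := 4)
    !![0, 1, 0, 0; 0, 1, 0, 0; 1, 0, 0, 0; 0, 1, 0, 0; 0, 0, 0, 1; 0, 0, 1, 0; 1, 0, 1, 1]
    !![1, 1, 0, 1, 0, 0, 0; 0, 0, 1, 0, 0, 0, 1; 0, 0, 0, 0, 1, 0, 1; 0, 0, 0, 0, 0, 1, 1]
    !![0, 0, 1, 0, 0, 0, 0; 1, 0, 0, 0, 0, 0, 0; 0, 0, 0, 0, 0, 1, 0; 0, 0, 0, 0, 1, 0, 0]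
    !![1, 0, 0, 0; 0, 0, 0, 0; 0, 1, 0, 0; 0, 0, 0, 0; 0, 0, 1, 0; 0, 0, 0, 1; 0, 0, 0, 0]
    (by decide +kernel) (by decide +kernel) (by decide +kernel)

theorem Z5_r3 : ((mm Z5 (mm Z5 Z5)).map φ).rank = 2 :=
  rank_of_cert' φ (r := 2)
    !![1, 0; 1, 0; 0, 0; 0, 0; 0, 0; 0, 0; 0, 1]
    !![1, 1, 0, 0, 0, 0, 0; 0, 0, 0, 0, 0, 0, 1]
    !![1, 0, 0, 0, 0, 0, 0; 0, 0, 0, 0, 0, 0, 1]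
    !![1, 0; 0, 0; 0, 0; 0, 0; 0, 0; 0, 0; 0, 1]
    (by decide +kernel) (by decide +kernel) (by decide +kernel)

include D φ in
theorem Z5_el [CharP F 2] (hP : ∀ (u v : ι → F) (hu : Q u ≠ 0) (hv : Q v ≠ 0), Q u = Q v →
    reflIso Q u hu * reflIso Q v hv ∈ Cfsg.Omega F (⇑Q)) (hQ : (polarBilin Q).Nondegenerate) (hn : 3 ≤ Fintype.card ι)
    (hs : ∃ u : ι → F, u ≠ 0 ∧ Q u = 0) : TwoEl Q (4, 4, 2) :=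
  twoEl_of D φ hQ hn hs Z5 (Z5_good D φ hP) (Z5_r1 φ) (Z5_r2 φ) (Z5_r3 φ) ![0, 1, 0, 1, 0, 0, 0] (by decide +kernel) 0 (by decide +kernel)

def Z6 : M7 (ZMod 2) := !![1, 0, 0, 0, 0, 1, 1; 0, 0, 0, 0, 0, 1, 0; 0, 0, 1, 0, 0, 0, 1; 0, 0, 0, 0, 0, 0, 0; 0, 1, 0, 0, 1, 1, 0; 0, 0, 0, 0, 1, 1, 0; 1, 0, 1, 0, 0, 1, 1]

theorem Z6_good (hP : ∀ (u v : ι → F) (hu : Q u ≠ 0) (hv : Q v ≠ 0), Q u = Q v →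
    reflIso Q u hu * reflIso Q v hv ∈ Cfsg.Omega F (⇑Q)) : D.Good φ Z6 := by
  have h : Z6 = (mm (mm (Mr ![0, 0, 0, 0, 1, 1, 0]) (Mr ![1, 1, 0, 0, 0, 0, 0])) (mm (mm (Mr ![0, 0, 1, 0, 0, 0, 1]) (Mr ![1, 1, 0, 0, 0, 1, 0])) (mm (Mr ![1, 0, 0, 0, 0, 0, 1]) (Mr ![0, 0, 0, 0, 0, 1, 1])))) := by decide +kernel
  rw [h]
  exact (Emb.Good.mul φ D (D.good_pair φ hP ![0, 0, 0, 0, 1, 1, 0] ![1, 1, 0, 0, 0, 0, 0] (by decide) (by decide)) (Emb.Good.mul φ D (D.good_pair φ hP ![0, 0, 1, 0, 0, 0, 1] ![1, 1, 0, 0, 0, 1, 0] (by decide) (by decide)) (D.good_pair φ hP ![1, 0, 0, 0, 0, 0, 1] ![0, 0, 0, 0, 0, 1, 1] (by decide) (by decide))))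

theorem Z6_r1 : ((Z6 * GG * Z6).map φ).rank = 4 :=
  rank_of_cert' φ (r := 4)
    !![0, 1, 1, 0; 0, 1, 1, 1; 0, 0, 0, 0; 0, 0, 0, 0; 1, 1, 0, 1; 0, 1, 0, 0; 0, 1, 1, 0]
    !![1, 0, 0, 0, 0, 0, 1; 0, 1, 0, 0, 0, 0, 0; 0, 0, 0, 0, 1, 0, 0; 0, 0, 0, 0, 0, 1, 0]
    !![1, 1, 0, 0, 1, 1, 0; 0, 0, 0, 0, 0, 1, 0; 1, 0, 0, 0, 0, 1, 0; 1, 1, 0, 0, 0, 0, 0]
    !![1, 0, 0, 0; 0, 1, 0, 0; 0, 0, 0, 0; 0, 0, 0, 0; 0, 0, 1, 0; 0, 0, 0, 1; 0, 0, 0, 0]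
    (by decide +kernel) (by decide +kernel) (by decide +kernel)

theorem Z6_r2 : ((Z6 * GG * Z6 * GG * Z6).map φ).rank = 4 :=
  rank_of_cert' φ (r := 4)
    !![1, 0, 1, 0; 1, 1, 0, 1; 0, 0, 0, 0; 0, 0, 0, 0; 1, 1, 1, 1; 1, 0, 0, 1; 1, 0, 1, 0]
    !![1, 0, 0, 0, 0, 0, 1; 0, 1, 0, 0, 0, 0, 0; 0, 0, 0, 0, 1, 0, 0; 0, 0, 0, 0, 0, 1, 0]
    !![1, 1, 0, 0, 1, 0, 0; 0, 1, 0, 0, 0, 1, 0; 0, 1, 0, 0, 1, 0, 0; 1, 1, 0, 0, 1, 1, 0]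
    !![1, 0, 0, 0; 0, 1, 0, 0; 0, 0, 0, 0; 0, 0, 0, 0; 0, 0, 1, 0; 0, 0, 0, 1; 0, 0, 0, 0]
    (by decide +kernel) (by decide +kernel) (by decide +kernel)

theorem Z6_r3 : ((mm Z6 (mm Z6 Z6)).map φ).rank = 4 :=
  rank_of_cert' φ (r := 4)
    !![0, 1, 0, 0; 1, 0, 0, 1; 0, 0, 1, 1; 0, 0, 0, 0; 0, 1, 0, 0; 1, 1, 0, 1; 0, 1, 1, 0]
    !![1, 0, 0, 0, 1, 1, 0; 0, 1, 0, 0, 0, 1, 0; 0, 0, 1, 0, 0, 0, 0; 0, 0, 0, 0, 0, 0, 1]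
    !![1, 1, 1, 0, 0, 0, 1; 1, 0, 0, 0, 0, 0, 0; 1, 0, 0, 0, 0, 0, 1; 1, 0, 1, 0, 0, 0, 1]
    !![1, 0, 0, 0; 0, 1, 0, 0; 0, 0, 1, 0; 0, 0, 0, 0; 0, 0, 0, 0; 0, 0, 0, 0; 0, 0, 0, 1]
    (by decide +kernel) (by decide +kernel) (by decide +kernel)

include D φ in
theorem Z6_el [CharP F 2] (hP : ∀ (u v : ι → F) (hu : Q u ≠ 0) (hv : Q v ≠ 0), Q u = Q v →
    reflIso Q u hu * reflIso Q v hv ∈ Cfsg.Omega F (⇑Q)) (hQ : (polarBilin Q).Nondegenerate) (hn : 3 ≤ Fintype.card ι)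
    (hs : ∃ u : ι → F, u ≠ 0 ∧ Q u = 0) : TwoEl Q (4, 4, 4) :=
  twoEl_of D φ hQ hn hs Z6 (Z6_good D φ hP) (Z6_r1 φ) (Z6_r2 φ) (Z6_r3 φ) ![0, 0, 1, 0, 0, 0, 0] (by decide +kernel) 2 (by decide +kernel)

def Z7 : M7 (ZMod 2) := !![1, 1, 1, 1, 0, 0, 1; 0, 1, 0, 0, 0, 0, 1; 0, 0, 1, 0, 0, 0, 1; 1, 1, 1, 1, 1, 0, 1; 0, 0, 1, 1, 1, 0, 0; 0, 0, 0, 0, 0, 0, 0; 1, 0, 0, 1, 1, 0, 0]

theorem Z7_good (hP : ∀ (u v : ι → F) (hu : Q u ≠ 0) (hv : Q v ≠ 0), Q u = Q v →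
    reflIso Q u hu * reflIso Q v hv ∈ Cfsg.Omega F (⇑Q)) : D.Good φ Z7 := by
  have h : Z7 = (mm (mm (Mr ![0, 0, 1, 0, 0, 0, 1]) (Mr ![1, 0, 1, 1, 0, 0, 0])) (mm (mm (Mr ![0, 1, 0, 0, 0, 0, 1]) (Mr ![0, 0, 1, 1, 1, 0, 0])) (mm (Mr ![0, 0, 0, 0, 0, 0, 1]) (Mr ![0, 0, 1, 1, 0, 0, 0])))) := by decide +kernel
  rw [h]
  exact (Emb.Good.mul φ D (D.good_pair φ hP ![0, 0, 1, 0, 0, 0, 1] ![1, 0, 1, 1, 0, 0, 0] (by decide) (by decide)) (Emb.Good.mul φ D (D.good_pair φ hP ![0, 1, 0, 0, 0, 0, 1] ![0, 0, 1, 1, 1, 0, 0] (by decide) (by decide)) (D.good_pair φ hP ![0, 0, 0, 0, 0, 0, 1] ![0, 0, 1, 1, 0, 0, 0] (by decide) (by decide))))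

theorem Z7_r1 : ((Z7 * GG * Z7).map φ).rank = 4 :=
  rank_of_cert' φ (r := 4)
    !![0, 1, 1, 1; 1, 1, 1, 0; 1, 1, 1, 1; 0, 1, 1, 1; 1, 1, 0, 1; 0, 0, 0, 0; 0, 1, 1, 0]
    !![1, 0, 0, 1, 0, 0, 1; 0, 1, 0, 0, 0, 0, 1; 0, 0, 1, 0, 0, 0, 1; 0, 0, 0, 0, 1, 0, 0]
    !![1, 0, 1, 0, 0, 0, 0; 1, 1, 0, 0, 1, 0, 0; 0, 0, 1, 0, 1, 0, 0; 0, 1, 1, 0, 0, 0, 0]
    !![1, 0, 0, 0; 0, 1, 0, 0; 0, 0, 1, 0; 0, 0, 0, 0; 0, 0, 0, 1; 0, 0, 0, 0; 0, 0, 0, 0]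
    (by decide +kernel) (by decide +kernel) (by decide +kernel)

theorem Z7_r2 : ((Z7 * GG * Z7 * GG * Z7).map φ).rank = 3 :=
  rank_of_cert' φ (r := 3)
    !![0, 0, 1; 0, 1, 1; 0, 1, 1; 0, 0, 1; 1, 0, 0; 0, 0, 0; 0, 0, 1]
    !![1, 0, 0, 1, 0, 0, 1; 0, 1, 1, 0, 0, 0, 0; 0, 0, 0, 0, 1, 0, 0]
    !![0, 0, 0, 0, 1, 0, 0; 1, 1, 0, 0, 0, 0, 0; 1, 0, 0, 0, 0, 0, 0]
    !![1, 0, 0; 0, 1, 0; 0, 0, 0; 0, 0, 0; 0, 0, 1; 0, 0, 0; 0, 0, 0]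
    (by decide +kernel) (by decide +kernel) (by decide +kernel)

theorem Z7_r3 : ((mm Z7 (mm Z7 Z7)).map φ).rank = 6 :=
  rank_of_cert' φ (r := 6)
    !![1, 0, 0, 1, 0, 1; 1, 1, 0, 1, 1, 0; 1, 0, 1, 1, 0, 0; 1, 0, 0, 1, 1, 1; 0, 1, 1, 1, 0, 1; 0, 0, 0, 0, 0, 0; 1, 1, 1, 1, 0, 0]
    !![1, 0, 0, 0, 0, 0, 0; 0, 1, 0, 0, 0, 0, 0; 0, 0, 1, 0, 0, 0, 0; 0, 0, 0, 1, 0, 0, 0; 0, 0, 0, 0, 1, 0, 0; 0, 0, 0, 0, 0, 0, 1]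
    !![0, 1, 1, 1, 1, 0, 0; 0, 0, 1, 0, 0, 0, 1; 1, 1, 0, 1, 0, 0, 1; 1, 0, 0, 0, 1, 0, 1; 1, 0, 0, 1, 0, 0, 0; 0, 1, 1, 1, 0, 0, 1]
    !![1, 0, 0, 0, 0, 0; 0, 1, 0, 0, 0, 0; 0, 0, 1, 0, 0, 0; 0, 0, 0, 1, 0, 0; 0, 0, 0, 0, 1, 0; 0, 0, 0, 0, 0, 0; 0, 0, 0, 0, 0, 1]
    (by decide +kernel) (by decide +kernel) (by decide +kernel)

include D φ in
theorem Z7_el [CharP F 2] (hP : ∀ (u v : ι → F) (hu : Q u ≠ 0) (hv : Q v ≠ 0), Q u = Q v →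
    reflIso Q u hu * reflIso Q v hv ∈ Cfsg.Omega F (⇑Q)) (hQ : (polarBilin Q).Nondegenerate) (hn : 3 ≤ Fintype.card ι)
    (hs : ∃ u : ι → F, u ≠ 0 ∧ Q u = 0) : TwoEl Q (4, 3, 6) :=
  twoEl_of D φ hQ hn hs Z7 (Z7_good D φ hP) (Z7_r1 φ) (Z7_r2 φ) (Z7_r3 φ) ![1, 0, 0, 1, 0, 0, 0] (by decide +kernel) 4 (by decide +kernel)

def Z8 : M7 (ZMod 2) := !![1, 0, 0, 0, 0, 1, 1; 0, 0, 0, 0, 0, 1, 0; 0, 0, 1, 0, 0, 0, 1; 0, 0, 1, 1, 0, 0, 0; 0, 0, 0, 0, 0, 0, 0; 0, 1, 0, 0, 0, 1, 1; 1, 0, 0, 1, 0, 0, 1]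

theorem Z8_good (hP : ∀ (u v : ι → F) (hu : Q u ≠ 0) (hv : Q v ≠ 0), Q u = Q v →
    reflIso Q u hu * reflIso Q v hv ∈ Cfsg.Omega F (⇑Q)) : D.Good φ Z8 := by
  have h : Z8 = (mm (mm (Mr ![1, 0, 0, 0, 0, 1, 1]) (Mr ![0, 0, 0, 0, 0, 0, 1])) (mm (mm (Mr ![0, 0, 1, 1, 0, 0, 0]) (Mr ![1, 1, 0, 0, 0, 1, 0])) (mm (Mr ![1, 1, 0, 0, 0, 0, 0]) (Mr ![0, 0, 0, 1, 0, 0, 1])))) := by decide +kernel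
  rw [h]
  exact (Emb.Good.mul φ D (D.good_pair φ hP ![1, 0, 0, 0, 0, 1, 1] ![0, 0, 0, 0, 0, 0, 1] (by decide) (by decide)) (Emb.Good.mul φ D (D.good_pair φ hP ![0, 0, 1, 1, 0, 0, 0] ![1, 1, 0, 0, 0, 1, 0] (by decide) (by decide)) (D.good_pair φ hP ![1, 1, 0, 0, 0, 0, 0] ![0, 0, 0, 1, 0, 0, 1] (by decide) (by decide))))

theorem Z8_r1 : ((Z8 * GG * Z8).map φ).rank = 4 :=
  rank_of_cert' φ (r := 4)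
    !![0, 0, 0, 1; 0, 0, 0, 0; 0, 1, 1, 0; 0, 0, 1, 0; 0, 0, 0, 0; 1, 0, 0, 1; 0, 1, 0, 1]
    !![1, 0, 0, 0, 0, 0, 1; 0, 0, 1, 0, 0, 0, 1; 0, 0, 0, 1, 0, 0, 1; 0, 0, 0, 0, 0, 1, 0]
    !![1, 0, 0, 0, 0, 1, 0; 0, 0, 1, 1, 0, 0, 0; 0, 0, 0, 1, 0, 0, 0; 1, 0, 0, 0, 0, 0, 0]
    !![1, 0, 0, 0; 0, 0, 0, 0; 0, 1, 0, 0; 0, 0, 1, 0; 0, 0, 0, 0; 0, 0, 0, 1; 0, 0, 0, 0]
    (by decide +kernel) (by decide +kernel) (by decide +kernel)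

theorem Z8_r2 : ((Z8 * GG * Z8 * GG * Z8).map φ).rank = 3 :=
  rank_of_cert' φ (r := 3)
    !![0, 0, 0; 0, 0, 0; 0, 1, 0; 1, 0, 0; 0, 0, 0; 0, 0, 1; 1, 1, 0]
    !![0, 0, 1, 0, 0, 0, 1; 0, 0, 0, 1, 0, 0, 1; 0, 0, 0, 0, 0, 1, 0]
    !![0, 0, 0, 1, 0, 0, 0; 0, 0, 1, 0, 0, 0, 0; 0, 0, 0, 0, 0, 1, 0]
    !![0, 0, 0; 0, 0, 0; 1, 0, 0; 0, 1, 0; 0, 0, 0; 0, 0, 1; 0, 0, 0]
    (by decide +kernel) (by decide +kernel) (by decide +kernel)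

theorem Z8_r3 : ((mm Z8 (mm Z8 Z8)).map φ).rank = 4 :=
  rank_of_cert' φ (r := 4)
    !![1, 0, 0, 1; 0, 0, 1, 0; 0, 0, 0, 0; 0, 0, 0, 0; 0, 0, 0, 0; 1, 1, 1, 0; 1, 0, 1, 0]
    !![1, 0, 0, 0, 0, 0, 0; 0, 1, 0, 0, 0, 0, 0; 0, 0, 0, 0, 0, 1, 0; 0, 0, 0, 0, 0, 0, 1]
    !![0, 1, 0, 0, 0, 0, 1; 0, 0, 0, 0, 0, 1, 1; 0, 1, 0, 0, 0, 0, 0; 1, 1, 0, 0, 0, 0, 1]
    !![1, 0, 0, 0; 0, 1, 0, 0; 0, 0, 0, 0; 0, 0, 0, 0; 0, 0, 0, 0; 0, 0, 1, 0; 0, 0, 0, 1]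
    (by decide +kernel) (by decide +kernel) (by decide +kernel)

include D φ in
theorem Z8_el [CharP F 2] (hP : ∀ (u v : ι → F) (hu : Q u ≠ 0) (hv : Q v ≠ 0), Q u = Q v →
    reflIso Q u hu * reflIso Q v hv ∈ Cfsg.Omega F (⇑Q)) (hQ : (polarBilin Q).Nondegenerate) (hn : 3 ≤ Fintype.card ι)
    (hs : ∃ u : ι → F, u ≠ 0 ∧ Q u = 0) : TwoEl Q (4, 3, 4) :=
  twoEl_of D φ hQ hn hs Z8 (Z8_good D φ hP) (Z8_r1 φ) (Z8_r2 φ) (Z8_r3 φ) ![0, 1, 0, 0, 0, 0, 0] (by decide +kernel) 5 (by decide +kernel)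

end Elements

theorem big_two_main [Finite F] [CharP F 2] (D : Emb Q)
    (hQ : (polarBilin Q).Nondegenerate) (hn : 5 ≤ Fintype.card ι) (hs : ∃ u : ι → F, u ≠ 0 ∧ Q u = 0)
    [Finite (Cfsg.POmega F (⇑Q))] [IsSimpleGroup (Cfsg.POmega F (⇑Q))]
    (hL : Cfsg.IsLieTypeChar 2 (Cfsg.POmega F (⇑Q))) : Cfsg.Agent.H504.Zeros.Big (Cfsg.POmega F (⇑Q)) := by
  have h2 : (2 : F) = 0 := CharTwo.two_eq_zero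
  have hP : ∀ (u v : ι → F) (hu : Q u ≠ 0) (hv : Q v ≠ 0), Q u = Q v →
      reflIso Q u hu * reflIso Q v hv ∈ Cfsg.Omega F (⇑Q) := fun u v hu hv _ =>
    Cfsg.Agent.ClassicalGeometry.OrthDickson.refl_mul_refl_mem_two Q h2 hQ (Or.inr (by omega)) u v hu hv
  have hn' : 3 ≤ Fintype.card ι := by omega
  refine big_two_of h2 hQ hn' hs hL ![(0, 0, 2), (0, 0, 4), (2, 0, 4), (2, 1, 4), (2, 2, 2), (4, 4, 2), (4, 4, 4), (4, 3, 6), (4, 3, 4)] (by decide) ?_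
  intro i
  fin_cases i
  · exact Z0_el D (ZMod.castHom (dvd_refl 2) F) hP hQ hn' hs
  · exact Z1_el D (ZMod.castHom (dvd_refl 2) F) hP hQ hn' hs
  · exact Z2_el D (ZMod.castHom (dvd_refl 2) F) hP hQ hn' hs
  · exact Z3_el D (ZMod.castHom (dvd_refl 2) F) hP hQ hn' hs
  · exact Z4_el D (ZMod.castHom (dvd_refl 2) F) hP hQ hn' hs
  · exact Z5_el D (ZMod.castHom (dvd_refl 2) F) hP hQ hn' hs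
  · exact Z6_el D (ZMod.castHom (dvd_refl 2) F) hP hQ hn' hs
  · exact Z7_el D (ZMod.castHom (dvd_refl 2) F) hP hQ hn' hs
  · exact Z8_el D (ZMod.castHom (dvd_refl 2) F) hP hQ hn' hs

end Cfsg.Agent.H621.Zer
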