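import Cfsg.Agent.H621.Zer.Odd
import Cfsg.Agent.H621.Zer.Two
import Cfsg.Agent.H695.ESeven
import Cfsg.Agent.S0295
import Cfsg.Agent.S0296
import Cfsg.Agent.S0297

/-!
# `Big` for the orthogonal groups (helper621, for S4895)
-/

set_option autoImplicit false

namespace Cfsg.Agent.H621.Zer

open Matrix QuadraticMap Cfsg Cfsg.Agent.LieClassical.OmegaReindex Cfsg.Agent.H695.ESeven

variable {F : Type} [Field F] [Fintype F]

theorem finite_pomega {ι : Type} [Fintype ι] [DecidableEq ι] (Q : (ι → F) → F) : Finite (Cfsg.POmega F Q) := by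
  have : Finite (Matrix.GeneralLinearGroup ι F) := inferInstance
  infer_instance

theorem big_of_theta {ι : Type} [Fintype ι] [DecidableEq ι] (Q : QuadraticForm F (ι → F))
    (θ : (Fin 7 → F) →ₗ[F] (ι → F)) (hθ : Function.Injective θ) (h : ∀ y, Q (θ y) = q7 y)
    (hQ : (polarBilin Q).Nondegenerate) (hn : 5 ≤ Fintype.card ι) (hs : ∃ u : ι → F, u ≠ 0 ∧ Q u = 0)
    (hsim : IsSimpleGroup (Cfsg.POmega F (⇑Q)))
    (hL : ∀ (p : ℕ) [CharP F p], IsLieTypeChar p (Cfsg.POmega F (⇑Q))) :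
    Cfsg.Agent.H504.Zeros.Big (Cfsg.POmega F (⇑Q)) := by
  have hfin := finite_pomega (⇑Q)
  let D : Emb Q := ⟨θ, hθ, fun y => by rw [h y, q7, qq, pow_two]⟩
  obtain ⟨p, hp⟩ := CharP.exists F
  have hpp : p.Prime := CharP.char_is_prime F p
  by_cases h2 : p = 2
  · subst h2
    exact big_two_main D hQ hn hs (hL 2)
  · refine big_odd_main hpp D ?_ hQ (by omega) hs (hL p)
    intro h3
    have h4 : p ∣ 2 := (CharP.cast_eq_zero_iff F p 2).1 (by exact_mod_cast h3)
    exact h2 ((Nat.prime_dvd_prime_iff_eq hpp Nat.prime_two).1 h4)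

/-- **`PΩ⁺_{2m}(q)`, `m ≥ 4`** -/
theorem big_oplus {F : Type} [Field F] [Fintype F] {m : ℕ} (hm : 4 ≤ m) :
    Cfsg.Agent.H504.Zeros.Big (Cfsg.POmega F (Cfsg.quadFormPlus m F)) := by
  obtain ⟨k, rfl⟩ : ∃ k, m = k + 4 := ⟨m - 4, by omega⟩
  have hsim := Cfsg.Agent.S0296.result (F := F) (k + 4) hm
  have key := big_of_theta (quadPlus (k + 4) F) (thetaPlus F k) (thetaPlus_injective k)
    (fun y => by rw [coe_quadPlus, thetaPlus_q]) quadPlus_nondegenerate
    (by simp only [Fintype.card_sum, Fintype.card_fin]; omega)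
    (quadPlus_isotropic (by omega)) (by rw [coe_quadPlus]; exact hsim)
    (fun p _ => by
      rw [coe_quadPlus]
      exact Or.inr (Or.inr (Or.inr (Or.inr (Or.inl ⟨F, inferInstance, inferInstance, inferInstance, k + 4, hm,
        ⟨MulEquiv.refl _⟩⟩)))))
  rwa [coe_quadPlus] at key

/-- **`PΩ⁻_{2m}(q)`, `m ≥ 4`** -/
theorem big_ominus {F : Type} [Field F] [Fintype F] {m : ℕ} (a b : F) (hm : 4 ≤ m)
    (hab : ∀ z₁ z₂ : F, z₁ ^ 2 + a * z₁ * z₂ + b * z₂ ^ 2 = 0 → z₁ = 0 ∧ z₂ = 0) :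
    Cfsg.Agent.H504.Zeros.Big (Cfsg.POmega F (Cfsg.quadFormMinus (m - 1) F a b)) := by
  obtain ⟨k, rfl⟩ : ∃ k, m = k + 4 := ⟨m - 4, by omega⟩
  have hsim := Cfsg.Agent.S0297.result (F := F) (k + 4) hm a b hab
  rw [show k + 4 - 1 = k + 3 from rfl] at hsim ⊢
  have key := big_of_theta (quadMinus (k + 3) F a b) (thetaMinus F k) (thetaMinus_injective k)
    (fun y => by rw [coe_quadMinus, thetaMinus_q]) (quadMinus_nondegenerate hab)
    (by simp only [Fintype.card_sum, Fintype.card_fin]; omega)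
    (quadMinus_isotropic (by omega) a b) (by rw [coe_quadMinus]; exact hsim)
    (fun p _ => by
      rw [coe_quadMinus]
      exact Or.inr (Or.inr (Or.inr (Or.inr (Or.inr (Or.inl ⟨F, inferInstance, inferInstance, inferInstance, k + 4,
        a, b, hm, hab, ⟨MulEquiv.refl _⟩⟩))))))
  rwa [coe_quadMinus] at key

/-- **`PΩ_{2m+1}(q)`, `m ≥ 3`, `q` odd** -/
theorem big_oodd {F : Type} [Field F] [Fintype F] {m : ℕ} (hm : 3 ≤ m) (ho : Odd (Fintype.card F)) :
    Cfsg.Agent.H504.Zeros.Big (Cfsg.POmega F (Cfsg.quadFormOdd m F)) := by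
  obtain ⟨k, rfl⟩ : ∃ k, m = k + 3 := ⟨m - 3, by omega⟩
  have hsim := Cfsg.Agent.S0295.result (F := F) ho (k + 3) hm
  have h2 : (2 : F) ≠ 0 := fun h2 => by
    have h3 : ringChar F ∣ 2 := (ringChar.spec F 2).1 (by exact_mod_cast h2)
    have h4 : ringChar F = 2 := (Nat.prime_dvd_prime_iff_eq (CharP.char_is_prime F (ringChar F)) Nat.prime_two).1 h3
    exact Nat.not_even_iff_odd.2 ho (Nat.even_iff.2 (FiniteField.even_card_of_char_two h4))
  have key := big_of_theta (quadOdd (k + 3) F) (thetaOdd F k) (thetaOdd_injective k)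
    (fun y => by rw [coe_quadOdd, thetaOdd_q]) (quadOdd_nondegenerate h2)
    (by simp only [Fintype.card_sum, Fintype.card_fin, Fintype.card_unit]; omega)
    (quadOdd_isotropic (by omega)) (by rw [coe_quadOdd]; exact hsim)
    (fun p _ => by
      rw [coe_quadOdd]
      exact Or.inr (Or.inr (Or.inr (Or.inl ⟨F, inferInstance, inferInstance, inferInstance, k + 3, hm, ho,
        ⟨MulEquiv.refl _⟩⟩))))
  rwa [coe_quadOdd] at key

end Cfsg.Agent.H621.Zer
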