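import Mathlib
import Cfsg.Agent.ClassicalGeometry.OmegaIndex
import Cfsg.Agent.ClassicalGeometry.OrthDickson
import Cfsg.Agent.LieClassical.OrthCenter

/-!
# Elements of `Omega` supported on a seven dimensional subspace (helper621, for S4895)

A quadratic space `(ι → F, Q)` with an isometric embedding `θ` of the seven dimensional space with the form
`y₀ y₁ + y₂ y₃ + y₄ y₅ + y₆²`.  The elements of `Omega` of the form `1 + T M B`, `T` the matrix of `θ`, `B` the matrix of
`v ↦ (polar (θ e_i) v)_i`, `M` a `7 × 7` matrix with entries in a small ring.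
-/

set_option autoImplicit false
set_option linter.unusedSectionVars false

namespace Cfsg.Agent.H621.Zer

open Matrix QuadraticMap Cfsg.Agent.ClassicalGeometry.Reflection

abbrev M7 (R : Type) := Matrix (Fin 7) (Fin 7) R

section Small

variable {R : Type} [CommRing R]

/-- the quadratic form -/
def qq (y : Fin 7 → R) : R := y 0 * y 1 + y 2 * y 3 + y 4 * y 5 + y 6 * y 6

/-- its Gram matrix -/
def GG : M7 R :=
  !![0, 1, 0, 0, 0, 0, 0; 1, 0, 0, 0, 0, 0, 0; 0, 0, 0, 1, 0, 0, 0; 0, 0, 1, 0, 0, 0, 0;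
    0, 0, 0, 0, 0, 1, 0; 0, 0, 0, 0, 1, 0, 0; 0, 0, 0, 0, 0, 0, 2]

/-- composition -/
def mm (M N : M7 R) : M7 R := M + N + M * GG * N

/-- a reflection -/
def Mr (a : Fin 7 → R) : M7 R := Matrix.of fun i j => -(qq a * (a i * a j))

end Small

variable {F : Type} [Field F] {ι : Type} [Fintype ι] [DecidableEq ι]

/-- an isometric embedding of the seven dimensional space -/
structure Emb (Q : QuadraticForm F (ι → F)) where
  θ : (Fin 7 → F) →ₗ[F] (ι → F)
  inj : Function.Injective θ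
  hq : ∀ y, Q (θ y) = qq y

namespace Emb

variable {Q : QuadraticForm F (ι → F)} (D : Emb Q)

/-- the matrix of the embedding -/
def T : Matrix ι (Fin 7) F := LinearMap.toMatrix' D.θ

/-- the matrix of the functionals -/
def B : Matrix (Fin 7) ι F := Matrix.of fun i j => polar (⇑Q) (D.θ (Pi.single i 1)) (Pi.single j 1)

theorem T_mulVec (y : Fin 7 → F) : D.T *ᵥ y = D.θ y := by
  rw [T, LinearMap.toMatrix'_mulVec]

theorem B_mulVec (v : ι → F) (i : Fin 7) : (D.B *ᵥ v) i = polar (⇑Q) (D.θ (Pi.single i 1)) v := by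
  have h : v = ∑ j, v j • (Pi.single j 1 : ι → F) := by
    funext k
    simp [Finset.sum_apply, Pi.single_apply]
  conv_rhs => rw [h, ← polarBilin_apply_apply, map_sum]
  rw [Matrix.mulVec, dotProduct]
  refine Finset.sum_congr rfl fun j _ => ?_
  rw [map_smul, polarBilin_apply_apply, smul_eq_mul, mul_comm]
  rfl

theorem polar_theta (y : Fin 7 → F) (v : ι → F) : polar (⇑Q) (D.θ y) v = y ⬝ᵥ (D.B *ᵥ v) := by
  have h : y = ∑ j, y j • (Pi.single j 1 : Fin 7 → F) := by
    funext k
    simp [Finset.sum_apply, Pi.single_apply]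
  conv_lhs => rw [h, ← polarBilin_apply_apply, map_sum, map_sum, LinearMap.sum_apply]
  rw [dotProduct]
  refine Finset.sum_congr rfl fun j _ => ?_
  rw [map_smul, map_smul, LinearMap.smul_apply, polarBilin_apply_apply, smul_eq_mul, B_mulVec]

theorem polar_theta_theta (x y : Fin 7 → F) : polar (⇑Q) (D.θ x) (D.θ y) =
    x 0 * y 1 + x 1 * y 0 + (x 2 * y 3 + x 3 * y 2) + (x 4 * y 5 + x 5 * y 4) + 2 * (x 6 * y 6) := by
  rw [polar, ← map_add, D.hq, D.hq, D.hq]
  simp only [qq, Pi.add_apply]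
  ring

theorem B_mul_T : D.B * D.T = GG := by
  apply Matrix.mulVec_injective
  funext y
  rw [← Matrix.mulVec_mulVec, T_mulVec]
  funext i
  rw [B_mulVec, polar_theta_theta]
  fin_cases i <;> simp [GG, Matrix.mulVec, dotProduct, Fin.sum_univ_succ]

theorem exists_L : ∃ L : Matrix (Fin 7) ι F, L * D.T = 1 := by
  obtain ⟨f, hf⟩ := LinearMap.exists_leftInverse_of_injective D.θ (LinearMap.ker_eq_bot.2 D.inj)
  refine ⟨LinearMap.toMatrix' f, ?_⟩
  rw [T, ← LinearMap.toMatrix'_comp, hf, LinearMap.toMatrix'_id]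

theorem exists_R (hQ : (polarBilin Q).Nondegenerate) : ∃ R : Matrix ι (Fin 7) F, D.B * R = 1 := by
  obtain ⟨L, hL⟩ := D.exists_L
  set P : Matrix ι ι F := LinearMap.BilinForm.toMatrix' (polarBilin Q) with hP
  have hdet : IsUnit P.det := by
    rw [isUnit_iff_ne_zero]
    exact (LinearMap.BilinForm.nondegenerate_iff_det_ne_zero (Pi.basisFun F ι)).1 hQ
  have hB : D.B = D.Tᵀ * P := by
    ext i j
    rw [B, Matrix.of_apply, polar_theta]
    rw [Matrix.mul_apply]
    have h1 : ∀ k, D.Tᵀ i k * P k j = (D.θ (Pi.single i 1)) k * polar (⇑Q) (Pi.single k 1) (Pi.single j 1) := by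
      intro k
      rw [hP, LinearMap.BilinForm.toMatrix'_apply, polarBilin_apply_apply]
      rfl
    rw [Finset.sum_congr rfl fun k _ => h1 k]
    rw [single_one_dotProduct, B_mulVec]
    have h : D.θ (Pi.single i 1) = ∑ k, (D.θ (Pi.single i 1)) k • (Pi.single k 1 : ι → F) := by
      funext l
      simp [Finset.sum_apply, Pi.single_apply]
    conv_lhs => rw [h, ← polarBilin_apply_apply, map_sum, LinearMap.sum_apply]
    refine Finset.sum_congr rfl fun k _ => ?_
    rw [map_smul, LinearMap.smul_apply, polarBilin_apply_apply, smul_eq_mul]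
  refine ⟨P⁻¹ * Lᵀ, ?_⟩
  rw [hB, Matrix.mul_assoc, ← Matrix.mul_assoc P, Matrix.mul_nonsing_inv _ hdet, Matrix.one_mul,
    ← Matrix.transpose_mul, hL, Matrix.transpose_one]

/-- the matrix `1 + T M B` -/
def em (M : M7 F) : Matrix ι ι F := 1 + D.T * M * D.B

theorem em_mul (M N : M7 F) : D.em M * D.em N = D.em (mm M N) := by
  have h : D.T * M * D.B * (D.T * N * D.B) = D.T * (M * GG * N) * D.B := by
    rw [← D.B_mul_T]
    simp only [Matrix.mul_assoc]
  simp only [em, mm, Matrix.mul_add, Matrix.add_mul, Matrix.one_mul, Matrix.mul_one, h]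
  abel

theorem coe_refl (y : Fin 7 → F) (hy : Q (D.θ y) ≠ 0) (h1 : qq y * qq y = 1) :
    ((reflIso Q (D.θ y) hy : GL ι F) : Matrix ι ι F) = D.em (Mr y) := by
  apply Matrix.mulVec_injective
  funext x
  change ((reflIso Q (D.θ y) hy : GL ι F) : Matrix ι ι F) *ᵥ x = D.em (Mr y) *ᵥ x
  rw [coe_reflIso, reflectionMatrix_mulVec, em, Matrix.add_mulVec, Matrix.one_mulVec, ← Matrix.mulVec_mulVec,
    ← Matrix.mulVec_mulVec, T_mulVec, D.hq, polar_theta]
  have h2 : (qq y)⁻¹ = qq y := inv_eq_of_mul_eq_one_right h1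
  have h3 : (Mr y : M7 F) *ᵥ (D.B *ᵥ x) = -((qq y * (y ⬝ᵥ (D.B *ᵥ x))) • y) := by
    funext i
    rw [Matrix.mulVec, dotProduct, Pi.neg_apply, Pi.smul_apply, smul_eq_mul, dotProduct, Finset.mul_sum,
      Finset.sum_mul, ← Finset.sum_neg_distrib]
    refine Finset.sum_congr rfl fun j _ => ?_
    simp only [Mr, Matrix.of_apply]
    ring
  rw [h2, h3, map_neg, map_smul, sub_eq_add_neg]

end Emb

end Cfsg.Agent.H621.Zer
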