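import Cfsg.Agent.H621.Zer.Frame
import Cfsg.Agent.H504.ZerosLie

/-!
# Elements of `Omega` given by small matrices: ranks, `p`-singularity, conjugacy (helper621, for S4895)
-/

set_option autoImplicit false
set_option linter.unusedSectionVars false

namespace Cfsg.Agent.H621.Zer

open Matrix QuadraticMap Cfsg.Agent.ClassicalGeometry.Reflection

variable {F : Type} [Field F] {ι : Type} [Fintype ι] [DecidableEq ι] {R : Type} [CommRing R] (φ : R →+* F)

theorem GG_map : (GG : M7 R).map φ = GG := by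
  ext i j
  fin_cases i <;> fin_cases j <;> simp [GG, map_ofNat]

theorem mm_map (M N : M7 R) : (mm M N).map φ = mm (M.map φ) (N.map φ) := by
  have h : ∀ X : M7 R, X.map φ = φ.mapMatrix X := fun _ => rfl
  rw [mm, mm, h, map_add, map_add, map_mul, map_mul, ← h, ← h, ← h, GG_map]

theorem qq_map (a : Fin 7 → R) : φ (qq a) = qq (φ ∘ a) := by
  simp [qq]

theorem Mr_map (a : Fin 7 → R) : (Mr a).map φ = Mr (φ ∘ a) := by
  ext i j
  simp only [Mr, Matrix.map_apply, Matrix.of_apply, map_neg, map_mul, qq_map, Function.comp]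

namespace Emb

variable {Q : QuadraticForm F (ι → F)} (D : Emb Q)

/-- the element `1 + T M B` lies in `Omega` -/
def Good (M : M7 R) : Prop := ∃ g : Cfsg.Omega F (⇑Q),
  (((g : Cfsg.isometryGroup F (⇑Q)) : GL ι F) : Matrix ι ι F) = D.em (M.map φ)

theorem Good.mul {M N : M7 R} (hM : D.Good φ M) (hN : D.Good φ N) : D.Good φ (mm M N) := by
  obtain ⟨g, hg⟩ := hM
  obtain ⟨h, hh⟩ := hN
  refine ⟨g * h, ?_⟩
  rw [mm_map, ← D.em_mul, ← hg, ← hh]
  rfl

theorem good_pair (hP : ∀ (u v : ι → F) (hu : Q u ≠ 0) (hv : Q v ≠ 0), Q u = Q v →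
      reflIso Q u hu * reflIso Q v hv ∈ Cfsg.Omega F (⇑Q))
    (a b : Fin 7 → R) (h1 : qq a * qq a = 1) (h2 : qq b = qq a) : D.Good φ (mm (Mr a) (Mr b)) := by
  have ha : (qq (φ ∘ a) : F) * qq (φ ∘ a) = 1 := by rw [← qq_map, ← map_mul, h1, map_one]
  have hb : (qq (φ ∘ b) : F) = qq (φ ∘ a) := by rw [← qq_map, ← qq_map, h2]
  have hu : Q (D.θ (φ ∘ a)) ≠ 0 := by rw [D.hq]; exact left_ne_zero_of_mul_eq_one ha
  have hv : Q (D.θ (φ ∘ b)) ≠ 0 := by rw [D.hq, hb]; exact left_ne_zero_of_mul_eq_one ha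
  refine ⟨⟨_, hP _ _ hu hv (by rw [D.hq, D.hq, hb])⟩, ?_⟩
  rw [mm_map, ← D.em_mul, Mr_map, Mr_map, ← D.coe_refl _ hu ha, ← D.coe_refl _ hv (by rw [hb]; exact ha)]
  rfl

/-- the odd characteristic case of the hypothesis of `good_pair` -/
theorem pair_odd (h2 : (2 : F) ≠ 0) (Q : QuadraticForm F (ι → F)) (u v : ι → F) (hu : Q u ≠ 0) (hv : Q v ≠ 0)
    (h : Q u = Q v) : reflIso Q u hu * reflIso Q v hv ∈ Cfsg.Omega F (⇑Q) := by
  have h1 := Cfsg.Agent.ClassicalGeometry.OmegaIndex.abelianization_of_reflIso_eq h2 Q hu hv ⟨Q u, by rw [h]⟩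
  refine (QuotientGroup.eq_one_iff _).1 ?_
  change Abelianization.of (reflIso Q u hu * reflIso Q v hv) = 1
  rw [map_mul, h1, ← map_mul, reflIso_mul_self, map_one]

/-- the rank of `T N B` -/
theorem rank_eq (hQ : (polarBilin Q).Nondegenerate) (N : M7 F) : (D.T * N * D.B).rank = N.rank := by
  obtain ⟨L, hL⟩ := D.exists_L
  obtain ⟨S, hS⟩ := D.exists_R hQ
  apply le_antisymm
  · exact (rank_mul_le_left _ _).trans (rank_mul_le_right _ _)
  · have h : N = L * (D.T * N * D.B) * S := by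
      rw [Matrix.mul_assoc D.T, ← Matrix.mul_assoc L, hL, Matrix.one_mul, Matrix.mul_assoc, hS, Matrix.mul_one]
    conv_lhs => rw [h]
    exact (rank_mul_le_left _ _).trans (rank_mul_le_right _ _)

theorem em_sub_one (M : M7 F) : D.em M - 1 = D.T * M * D.B := by
  rw [em, add_sub_cancel_left]

theorem TB_mul (M N : M7 F) : (D.T * M * D.B) * (D.T * N * D.B) = D.T * (M * GG * N) * D.B := by
  rw [← D.B_mul_T]
  simp only [Matrix.mul_assoc]

end Emb

/-! ### Rank certificates -/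

theorem rank_of_cert {r : ℕ} {N : M7 R} (X : Matrix (Fin 7) (Fin r) R) (Y : Matrix (Fin r) (Fin 7) R)
    (L : Matrix (Fin r) (Fin 7) R) (S : Matrix (Fin 7) (Fin r) R) {a b c : R} (ha : φ a ≠ 0) (hb : φ b ≠ 0)
    (hc : φ c ≠ 0) (h1 : X * Y = c • N) (h2 : L * X = a • (1 : Matrix (Fin r) (Fin r) R))
    (h3 : Y * S = b • (1 : Matrix (Fin r) (Fin r) R)) : (N.map φ).rank = r := by
  have m : ∀ {α β γ : Type} [Fintype β] (U : Matrix α β R) (V : Matrix β γ R), (U * V).map φ = U.map φ * V.map φ :=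
    fun U V => Matrix.map_mul
  have e1 : X.map φ * Y.map φ = φ c • N.map φ := by
    rw [← m, h1]
    ext i j
    simp
  have e2 : L.map φ * X.map φ = φ a • (1 : Matrix (Fin r) (Fin r) F) := by
    rw [← m, h2]
    ext i j
    by_cases hij : i = j
    · subst hij; simp
    · simp [Matrix.one_apply_ne hij]
  have e3 : Y.map φ * S.map φ = φ b • (1 : Matrix (Fin r) (Fin r) F) := by
    rw [← m, h3]
    ext i j
    by_cases hij : i = j
    · subst hij; simp
    · simp [Matrix.one_apply_ne hij]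
  have e4 : N.map φ = (φ c)⁻¹ • (X.map φ * Y.map φ) := by rw [e1, smul_smul, inv_mul_cancel₀ hc, one_smul]
  apply le_antisymm
  · rw [e4, ← Matrix.smul_mul]
    have e8 := rank_mul_le_left ((φ c)⁻¹ • X.map φ) (Y.map φ)
    have e9 := rank_le_card_width ((φ c)⁻¹ • X.map φ)
    rw [Fintype.card_fin] at e9
    exact e8.trans e9
  · have e5 : (φ a * φ b) • (1 : Matrix (Fin r) (Fin r) F) = L.map φ * (φ c • N.map φ) * S.map φ := by
      rw [← e1, ← Matrix.mul_assoc, e2, Matrix.smul_mul, Matrix.one_mul, Matrix.smul_mul, e3, smul_smul]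
    have e6 : (1 : Matrix (Fin r) (Fin r) F) = ((φ a * φ b)⁻¹ • L.map φ) * (φ c • N.map φ) * S.map φ := by
      rw [Matrix.smul_mul, Matrix.smul_mul, ← e5, smul_smul, inv_mul_cancel₀ (mul_ne_zero ha hb), one_smul]
    have e7 : (1 : Matrix (Fin r) (Fin r) F).rank ≤ (N.map φ).rank := by
      rw [e6]
      have f1 := rank_mul_le_left (((φ a * φ b)⁻¹ • L.map φ) * (φ c • N.map φ)) (S.map φ)
      have f2 := rank_mul_le_right ((φ a * φ b)⁻¹ • L.map φ) (φ c • N.map φ)
      have f3 : (φ c • N.map φ).rank ≤ (N.map φ).rank := by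
        have f4 := rank_mul_le_right (φ c • (1 : M7 F)) (N.map φ)
        rwa [Matrix.smul_mul, Matrix.one_mul] at f4
      exact f1.trans (f2.trans f3)
    rwa [rank_one, Fintype.card_fin] at e7

/-! ### `p`-singular elements -/

section Sing

variable {Q : QuadraticForm F (ι → F)} (D : Emb Q)

theorem pow_mulVec_of {X : Matrix ι ι F} {v w : ι → F} (h1 : X *ᵥ v = v + w) (h2 : X *ᵥ w = w) (k : ℕ) :
    (X ^ k) *ᵥ v = v + (k : F) • w ∧ (X ^ k) *ᵥ w = w := by
  induction k with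
  | zero => simp
  | succ k ih =>
    rw [pow_succ', ← Matrix.mulVec_mulVec, ← Matrix.mulVec_mulVec, ih.1, ih.2, Matrix.mulVec_add, Matrix.mulVec_smul,
      h1, h2]
    refine ⟨?_, rfl⟩
    rw [Nat.cast_succ, add_smul, one_smul]
    abel

theorem dvd_orderOf {p : ℕ} [CharP F p] (hQ : (polarBilin Q).Nondegenerate) (hn : 3 ≤ Fintype.card ι)
    (hs : ∃ u : ι → F, u ≠ 0 ∧ Q u = 0) {M : M7 R} (β : Fin 7 → R) (h0 : M *ᵥ (GG *ᵥ (M *ᵥ β)) = 0) (k : Fin 7)
    (hk : φ ((M *ᵥ β) k) ≠ 0) (g : Cfsg.Omega F (⇑Q))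
    (hg : (((g : Cfsg.isometryGroup F (⇑Q)) : GL ι F) : Matrix ι ι F) = D.em (M.map φ)) :
    p ∣ orderOf (QuotientGroup.mk g : Cfsg.POmega F (⇑Q)) := by
  obtain ⟨S, hS⟩ := D.exists_R hQ
  set v : ι → F := S *ᵥ (φ ∘ β) with hv
  set w : ι → F := D.T *ᵥ (φ ∘ (M *ᵥ β)) with hw
  have hm : ∀ (N : M7 R) (x : Fin 7 → R), (N.map φ) *ᵥ (φ ∘ x) = φ ∘ (N *ᵥ x) := fun N x => by
    funext i
    exact (RingHom.map_mulVec φ N x i).symm
  have h1 : D.em (M.map φ) *ᵥ v = v + w := by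
    rw [Emb.em, Matrix.add_mulVec, Matrix.one_mulVec, hv, ← Matrix.mulVec_mulVec, ← Matrix.mulVec_mulVec,
      Matrix.mulVec_mulVec _ D.B S, hS, Matrix.one_mulVec, hm]
  have h2 : D.em (M.map φ) *ᵥ w = w := by
    rw [Emb.em, Matrix.add_mulVec, Matrix.one_mulVec, hw, ← Matrix.mulVec_mulVec, ← Matrix.mulVec_mulVec,
      Matrix.mulVec_mulVec _ D.B D.T, D.B_mul_T, ← GG_map φ, hm, hm, h0]
    have : (φ ∘ (0 : Fin 7 → R)) = 0 := by funext i; simp
    rw [this, Matrix.mulVec_zero, add_zero]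
  have hw0 : w ≠ 0 := by
    intro h
    apply hk
    have h3 : D.θ (φ ∘ (M *ᵥ β)) = 0 := by rw [← D.T_mulVec]; exact h
    have h4 : φ ∘ (M *ᵥ β) = 0 := D.inj (by rw [h3, map_zero])
    exact congrFun h4 k
  set m := orderOf (QuotientGroup.mk g : Cfsg.POmega F (⇑Q)) with hm'
  have h3 : (QuotientGroup.mk (g ^ m) : Cfsg.POmega F (⇑Q)) = 1 := by
    rw [QuotientGroup.mk_pow]
    exact pow_orderOf_eq_one _
  have h4 := (Cfsg.Agent.LieClassical.OrthCenter.mem_center_omega_iff hQ hn hs _).1 ((QuotientGroup.eq_one_iff _).1 h3)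
  have h5 : ((((g ^ m : Cfsg.Omega F (⇑Q)) : Cfsg.isometryGroup F (⇑Q)) : GL ι F) : Matrix ι ι F) =
      D.em (M.map φ) ^ m := by
    rw [← hg]
    rfl
  rw [h5] at h4
  obtain ⟨h6, h7⟩ := pow_mulVec_of h1 h2 m
  have h8 : D.em (M.map φ) ^ m = 1 := by
    rcases h4 with h4 | h4
    · exact h4
    · rw [h4, Matrix.neg_mulVec, Matrix.one_mulVec] at h7
      have h9 : (2 : F) • w = 0 := by
        rw [two_smul]
        nth_rewrite 1 [← h7]
        exact neg_add_cancel w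
      have h10 : (2 : F) = 0 := (smul_eq_zero.1 h9).resolve_right hw0
      rw [h4]
      have h11 : (-1 : F) = 1 := by linear_combination -h10
      rw [← one_smul F (1 : Matrix ι ι F), ← neg_smul, h11]
  rw [h8, Matrix.one_mulVec] at h6
  have h9 : (m : F) • w = 0 := by
    have := congrArg (fun z => z - v) h6
    simp only [sub_self, add_sub_cancel_left] at this
    exact this.symm
  exact (CharP.cast_eq_zero_iff F p m).1 ((smul_eq_zero.1 h9).resolve_right hw0)

end Sing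

/-! ### Conjugacy -/

section Conj

variable {Q : QuadraticForm F (ι → F)}

abbrev co (g : Cfsg.Omega F (⇑Q)) : Matrix ι ι F := (((g : Cfsg.isometryGroup F (⇑Q)) : GL ι F) : Matrix ι ι F)

theorem conj_of_isConj (hQ : (polarBilin Q).Nondegenerate) (hn : 3 ≤ Fintype.card ι)
    (hs : ∃ u : ι → F, u ≠ 0 ∧ Q u = 0) {g h : Cfsg.Omega F (⇑Q)}
    (hc : IsConj (QuotientGroup.mk g : Cfsg.POmega F (⇑Q)) (QuotientGroup.mk h)) :
    ∃ P P' : Matrix ι ι F, P * P' = 1 ∧ P' * P = 1 ∧ (co h = P * co g * P' ∨ co h = -(P * co g * P')) := by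
  obtain ⟨c, hc⟩ := isConj_iff.1 hc
  obtain ⟨c, rfl⟩ := QuotientGroup.mk_surjective c
  have h1 : (QuotientGroup.mk ((c * g * c⁻¹)⁻¹ * h) : Cfsg.POmega F (⇑Q)) = 1 := by
    rw [QuotientGroup.mk_mul, ← hc]
    exact inv_mul_cancel (QuotientGroup.mk (c * g * c⁻¹) : Cfsg.POmega F (⇑Q))
  have h2 := (Cfsg.Agent.LieClassical.OrthCenter.mem_center_omega_iff hQ hn hs _).1 ((QuotientGroup.eq_one_iff _).1 h1)
  have h3 : co h = co (c * g * c⁻¹) * co ((c * g * c⁻¹)⁻¹ * h) := by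
    have : h = (c * g * c⁻¹) * ((c * g * c⁻¹)⁻¹ * h) := by group
    conv_lhs => rw [this]
    rfl
  have h4 : co (c * g * c⁻¹) = co c * co g * co c⁻¹ := rfl
  refine ⟨co c, co c⁻¹, ?_, ?_, ?_⟩
  · have : co c * co c⁻¹ = co (c * c⁻¹) := rfl
    rw [this, mul_inv_cancel]
    rfl
  · have : co c⁻¹ * co c = co (c⁻¹ * c) := rfl
    rw [this, inv_mul_cancel]
    rfl
  · rcases h2 with h2 | h2
    · left
      rw [h3, h4]
      rw [show co ((c * g * c⁻¹)⁻¹ * h) = 1 from h2, mul_one]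
    · right
      rw [h3, h4]
      rw [show co ((c * g * c⁻¹)⁻¹ * h) = -1 from h2, mul_neg, mul_one]

theorem rank_conj {P P' : Matrix ι ι F} (h2 : P' * P = 1) (X : Matrix ι ι F) :
    (P * X * P').rank = X.rank := by
  apply le_antisymm
  · exact (rank_mul_le_left _ _).trans (rank_mul_le_right _ _)
  · have h : X = P' * (P * X * P') * P := by
      simp only [Matrix.mul_assoc, h2, Matrix.mul_one]
      rw [← Matrix.mul_assoc, h2, Matrix.one_mul]
    conv_lhs => rw [h]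
    exact (rank_mul_le_left _ _).trans (rank_mul_le_right _ _)

theorem conj_mul {P P' : Matrix ι ι F} (h2 : P' * P = 1) (X Y : Matrix ι ι F) :
    (P * X * P') * (P * Y * P') = P * (X * Y) * P' := by
  calc (P * X * P') * (P * Y * P') = P * X * (P' * P) * Y * P' := by simp only [Matrix.mul_assoc]
    _ = _ := by rw [h2, Matrix.mul_one]; simp only [Matrix.mul_assoc]

theorem conj_sub_one {P P' : Matrix ι ι F} (h1 : P * P' = 1) (X : Matrix ι ι F) :
    P * X * P' - 1 = P * (X - 1) * P' := by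
  rw [Matrix.mul_sub, Matrix.sub_mul, Matrix.mul_one, h1]

theorem conj_add_one {P P' : Matrix ι ι F} (h1 : P * P' = 1) (X : Matrix ι ι F) :
    P * X * P' + 1 = P * (X + 1) * P' := by
  rw [Matrix.mul_add, Matrix.add_mul, Matrix.mul_one, h1]

theorem conj_pow {P P' : Matrix ι ι F} (h1 : P * P' = 1) (h2 : P' * P = 1) (X : Matrix ι ι F) (k : ℕ) :
    (P * X * P') ^ k = P * X ^ k * P' := by
  induction k with
  | zero => rw [pow_zero, pow_zero, Matrix.mul_one, h1]
  | succ k ih => rw [pow_succ, ih, conj_mul h2, pow_succ]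

end Conj

/-- nine elements distinguished by invariants -/
theorem big_of_inv {G : Type} [Group G] [Finite G] [IsSimpleGroup G] {p : ℕ} (hp : p.Prime)
    (hL : Cfsg.IsLieTypeChar p G) {α : Type*} (g : Fin 9 → G) (I : Fin 9 → α) (hI : Function.Injective I)
    (hc : ∀ i j, IsConj (g i) (g j) → I i = I j) (hs : ∀ i, p ∣ orderOf (g i)) :
    Cfsg.Agent.H504.Zeros.Big G := by
  classical
  have hinj : Function.Injective g := fun i j h => hI (hc i j (by rw [h]))
  refine Cfsg.Agent.H504.Zeros.big_of_lie hp hL (Finset.univ.image g) ?_ ?_ ?_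
  · intro a ha b hb hab
    obtain ⟨i, -, rfl⟩ := Finset.mem_image.1 ha
    obtain ⟨j, -, rfl⟩ := Finset.mem_image.1 hb
    rw [hI (hc i j hab)]
  · intro a ha
    obtain ⟨i, -, rfl⟩ := Finset.mem_image.1 ha
    exact hs i
  · rw [Finset.card_image_of_injective _ hinj, Finset.card_univ, Fintype.card_fin]

end Cfsg.Agent.H621.Zer
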