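import Cfsg.Agent.H621.Zer.Good

/-!
# Nine classes in odd characteristic (helper621, for S4895)
-/

set_option autoImplicit false
set_option linter.unusedSectionVars false

namespace Cfsg.Agent.H621.Zer

open Matrix QuadraticMap Cfsg.Agent.ClassicalGeometry.Reflection

variable {F : Type} [Field F] {ι : Type} [Fintype ι] [DecidableEq ι] {Q : QuadraticForm F (ι → F)}

/-- an element with the given invariants -/
def OddEl (Q : QuadraticForm F (ι → F)) (p : ℕ) (t : ℕ × ℕ × Bool) : Prop :=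
  ∃ g : Cfsg.Omega F (⇑Q), p ∣ orderOf (QuotientGroup.mk g : Cfsg.POmega F (⇑Q)) ∧
    (co g * co g - 1).rank = t.1 ∧ ((co g * co g - 1) * (co g * co g - 1)).rank = t.2.1 ∧
    (t.2.2 = true → (co g - 1) ^ 8 = 0) ∧
    (t.2.2 = false → (∃ v : ι → F, v ≠ 0 ∧ co g *ᵥ v = v) ∧ ∃ v : ι → F, v ≠ 0 ∧ co g *ᵥ v = -v)

theorem pow_mulVec_smul {X : Matrix ι ι F} {v : ι → F} {c : F} (h : X *ᵥ v = c • v) (k : ℕ) :
    (X ^ k) *ᵥ v = (c ^ k) • v := by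
  induction k with
  | zero => simp
  | succ k ih => rw [pow_succ, ← Matrix.mulVec_mulVec, h, Matrix.mulVec_smul, ih, smul_smul, pow_succ']

theorem not_nil {X : Matrix ι ι F} {v : ι → F} {c : F} (hc : c ≠ 0) (hv : v ≠ 0) (h : X *ᵥ v = c • v) {k : ℕ}
    (hX : X ^ k = 0) : False := by
  have h1 := pow_mulVec_smul h k
  rw [hX, Matrix.zero_mulVec] at h1
  exact (smul_ne_zero (pow_ne_zero k hc) hv) h1.symm

theorem odd_distinct (h2 : (2 : F) ≠ 0) (hQ : (polarBilin Q).Nondegenerate) (hn : 3 ≤ Fintype.card ι)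
    (hs : ∃ u : ι → F, u ≠ 0 ∧ Q u = 0) {g h : Cfsg.Omega F (⇑Q)} {s t : ℕ × ℕ × Bool}
    (hg1 : (co g * co g - 1).rank = s.1) (hg2 : ((co g * co g - 1) * (co g * co g - 1)).rank = s.2.1)
    (hg3 : s.2.2 = true → (co g - 1) ^ 8 = 0)
    (hg4 : s.2.2 = false → (∃ v : ι → F, v ≠ 0 ∧ co g *ᵥ v = v) ∧ ∃ v : ι → F, v ≠ 0 ∧ co g *ᵥ v = -v)
    (hh1 : (co h * co h - 1).rank = t.1) (hh2 : ((co h * co h - 1) * (co h * co h - 1)).rank = t.2.1)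
    (hh3 : t.2.2 = true → (co h - 1) ^ 8 = 0)
    (hh4 : t.2.2 = false → (∃ v : ι → F, v ≠ 0 ∧ co h *ᵥ v = v) ∧ ∃ v : ι → F, v ≠ 0 ∧ co h *ᵥ v = -v)
    (hc : IsConj (QuotientGroup.mk g : Cfsg.POmega F (⇑Q)) (QuotientGroup.mk h)) : s = t := by
  obtain ⟨P, P', e1, e2, e3⟩ := conj_of_isConj hQ hn hs hc
  have h4 : co h * co h - 1 = P * (co g * co g - 1) * P' := by
    rw [← conj_sub_one e1, ← conj_mul e2]
    rcases e3 with e3 | e3 <;> rw [e3]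
    rw [neg_mul_neg]
  have a1 : s.1 = t.1 := by rw [← hg1, ← hh1, h4, rank_conj e2]
  have a2 : s.2.1 = t.2.1 := by rw [← hg2, ← hh2, h4, conj_mul e2, rank_conj e2]
  have h22 : (-2 : F) ≠ 0 := neg_ne_zero.2 h2
  -- the unipotent side
  have key : ∀ x y : Cfsg.Omega F (⇑Q), (co x - 1) ^ 8 = 0 →
      ((∃ v : ι → F, v ≠ 0 ∧ co y *ᵥ v = v) ∧ ∃ v : ι → F, v ≠ 0 ∧ co y *ᵥ v = -v) →
      (∃ P P' : Matrix ι ι F, P * P' = 1 ∧ P' * P = 1 ∧ (co y = P * co x * P' ∨ co y = -(P * co x * P'))) → False := by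
    rintro x y hx ⟨⟨v, hv, hv1⟩, w, hw, hw1⟩ ⟨P, P', f1, f2, f3⟩
    rcases f3 with f3 | f3
    · have f4 : (co y - 1) ^ 8 = 0 := by
        rw [f3, conj_sub_one f1, conj_pow f1 f2, hx, Matrix.mul_zero, Matrix.zero_mul]
      refine not_nil h22 hw (X := co y - 1) ?_ f4
      rw [Matrix.sub_mulVec, hw1, Matrix.one_mulVec, neg_smul, two_smul]
      abel
    · have f4 : (co y + 1) ^ 8 = 0 := by
        have f5 : co y + 1 = -(P * (co x - 1) * P') := by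
          rw [← conj_sub_one f1, f3]
          abel
        rw [f5, Even.neg_pow ⟨4, rfl⟩, conj_pow f1 f2, hx, Matrix.mul_zero, Matrix.zero_mul]
      refine not_nil h2 hv (X := co y + 1) ?_ f4
      rw [Matrix.add_mulVec, hv1, Matrix.one_mulVec, two_smul]
  have a3 : s.2.2 = t.2.2 := by
    rcases hs2 : s.2.2 with _ | _ <;> rcases ht2 : t.2.2 with _ | _
    · rfl
    · exfalso
      refine key h g (hh3 ht2) (hg4 hs2) ⟨P', P, e2, e1, ?_⟩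
      have e4 : P' * (P * co g * P') * P = co g := by
        simp only [Matrix.mul_assoc, e2, Matrix.mul_one]
        rw [← Matrix.mul_assoc, e2, Matrix.one_mul]
      rcases e3 with e3 | e3
      · left; rw [e3, e4]
      · right; rw [e3, Matrix.mul_neg, Matrix.neg_mul, e4, neg_neg]
    · exact absurd (key g h (hg3 hs2) (hh4 ht2) ⟨P, P', e1, e2, e3⟩) id
    · rfl
  exact Prod.ext a1 (Prod.ext a2 a3)

theorem big_odd_of {p : ℕ} (hp : p.Prime) (h2 : (2 : F) ≠ 0) (hQ : (polarBilin Q).Nondegenerate)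
    (hn : 3 ≤ Fintype.card ι) (hs : ∃ u : ι → F, u ≠ 0 ∧ Q u = 0) [Finite (Cfsg.POmega F (⇑Q))]
    [IsSimpleGroup (Cfsg.POmega F (⇑Q))] (hL : Cfsg.IsLieTypeChar p (Cfsg.POmega F (⇑Q)))
    (t : Fin 9 → ℕ × ℕ × Bool) (ht : Function.Injective t) (h : ∀ i, OddEl Q p (t i)) :
    Cfsg.Agent.H504.Zeros.Big (Cfsg.POmega F (⇑Q)) := by
  choose g h0 h1 h2' h3 h4 using h
  exact big_of_inv hp hL (fun i => (QuotientGroup.mk (g i) : Cfsg.POmega F (⇑Q))) t ht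
    (fun i j hc => odd_distinct h2 hQ hn hs (h1 i) (h2' i) (h3 i) (h4 i) (h1 j) (h2' j) (h3 j) (h4 j) hc) h0

/-! ### Integer data -/

section Data

variable (D : Emb Q)

local notation "φz" => Int.castRingHom F

theorem two_pow_ne {a : ℤ} (h2 : (2 : F) ≠ 0) (k : ℕ) (ha : a = 2 ^ k) : (Int.castRingHom F) a ≠ 0 := by
  rw [ha, map_pow]
  exact pow_ne_zero _ (by simpa using h2)

theorem theta_ne (y : Fin 7 → ℤ) (k : Fin 7) (hk : y k = 1) : D.θ ((Int.castRingHom F) ∘ y) ≠ 0 := by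
  intro h
  have h1 : (Int.castRingHom F) ∘ y = 0 := D.inj (by rw [h, map_zero])
  have h3 := congrFun h1 k
  simp only [Function.comp, hk, map_one, Pi.zero_apply, one_ne_zero] at h3

theorem em_mulVec_theta (M : M7 ℤ) (y : Fin 7 → ℤ) (c : ℤ) (h : M *ᵥ (GG *ᵥ y) = c • y) :
    D.em (M.map (Int.castRingHom F)) *ᵥ (D.θ ((Int.castRingHom F) ∘ y)) =
      (1 + (c : F)) • D.θ ((Int.castRingHom F) ∘ y) := by
  have hm : ∀ (N : M7 ℤ) (x : Fin 7 → ℤ), (N.map (Int.castRingHom F)) *ᵥ ((Int.castRingHom F) ∘ x) =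
      (Int.castRingHom F) ∘ (N *ᵥ x) := fun N x => by
    funext i
    exact (RingHom.map_mulVec (Int.castRingHom F) N x i).symm
  rw [Emb.em, Matrix.add_mulVec, Matrix.one_mulVec, ← Matrix.mulVec_mulVec, ← Matrix.mulVec_mulVec, ← D.T_mulVec,
    Matrix.mulVec_mulVec _ D.B D.T, D.B_mul_T, ← GG_map (Int.castRingHom F), hm, hm, h]
  have h1 : (Int.castRingHom F) ∘ (c • y) = (c : F) • ((Int.castRingHom F) ∘ y) := by
    funext i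
    simp
  rw [h1, Matrix.mulVec_smul, add_smul, one_smul]

theorem oddEl_of {p : ℕ} [CharP F p] (hQ : (polarBilin Q).Nondegenerate) (hn : 3 ≤ Fintype.card ι)
    (hs : ∃ u : ι → F, u ≠ 0 ∧ Q u = 0) {t : ℕ × ℕ × Bool} (M : M7 ℤ) (hM : D.Good (Int.castRingHom F) M)
    (hr1 : ((mm M M).map (Int.castRingHom F)).rank = t.1)
    (hr2 : ((mm M M * GG * mm M M).map (Int.castRingHom F)).rank = t.2.1)
    (β : Fin 7 → ℤ) (h0 : M *ᵥ (GG *ᵥ (M *ᵥ β)) = 0) (k : Fin 7) (hk : (Int.castRingHom F) ((M *ᵥ β) k) ≠ 0)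
    (hu : t.2.2 = true → ((M * GG * M) * GG * (M * GG * M)) * GG * ((M * GG * M) * GG * (M * GG * M)) = 0)
    (hu' : t.2.2 = false → M *ᵥ (GG *ᵥ ![0, 0, 0, 0, 1, 0, 0]) = 0 ∧
      M *ᵥ (GG *ᵥ ![1, 0, 0, 0, 0, 0, 0]) = (-2 : ℤ) • ![1, 0, 0, 0, 0, 0, 0]) :
    OddEl Q p t := by
  obtain ⟨g, hg⟩ := hM
  have hX : co g = D.em (M.map (Int.castRingHom F)) := hg
  have m : ∀ (U V : M7 ℤ), (U * V).map (Int.castRingHom F) = U.map (Int.castRingHom F) * V.map (Int.castRingHom F) :=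
    fun U V => Matrix.map_mul
  have e1 : co g * co g - 1 = D.T * ((mm M M).map (Int.castRingHom F)) * D.B := by
    rw [hX, D.em_mul, D.em_sub_one, mm_map]
  refine ⟨g, dvd_orderOf (Int.castRingHom F) D hQ hn hs β h0 k hk g hg, ?_, ?_, ?_, ?_⟩
  · rw [e1, D.rank_eq hQ, hr1]
  · rw [e1, D.TB_mul, D.rank_eq hQ, ← hr2, m, m, GG_map]
  · intro h
    have h1 := hu h
    have e2 : co g - 1 = D.T * (M.map (Int.castRingHom F)) * D.B := by rw [hX, D.em_sub_one]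
    have e3 : (co g - 1) ^ 8 = (((co g - 1) * (co g - 1)) * ((co g - 1) * (co g - 1))) *
        (((co g - 1) * (co g - 1)) * ((co g - 1) * (co g - 1))) := by
      rw [← pow_two, ← pow_two, ← pow_two, ← pow_mul, ← pow_mul]
    rw [e3, e2, D.TB_mul, D.TB_mul, D.TB_mul]
    have e4 := congrArg (fun N : M7 ℤ => N.map (Int.castRingHom F)) h1
    simp only [m, GG_map] at e4
    rw [e4]
    have e5 : ((0 : M7 ℤ).map (Int.castRingHom F)) = 0 := by ext i j; simp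
    rw [e5, Matrix.mul_zero, Matrix.zero_mul]
  · intro h
    obtain ⟨h1, h3⟩ := hu' h
    refine ⟨⟨D.θ ((Int.castRingHom F) ∘ ![0, 0, 0, 0, 1, 0, 0]), theta_ne D _ 4 rfl, ?_⟩,
      ⟨D.θ ((Int.castRingHom F) ∘ ![1, 0, 0, 0, 0, 0, 0]), theta_ne D _ 0 rfl, ?_⟩⟩
    · rw [hX, em_mulVec_theta D M _ 0 (by rw [h1, zero_smul]), Int.cast_zero, add_zero, one_smul]
    · rw [hX, em_mulVec_theta D M _ (-2) h3]
      have : (1 + ((-2 : ℤ) : F)) = -1 := by push_cast; ring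
      rw [this, neg_smul, one_smul]

end Data

/-! ### The nine elements -/

section Elements

variable (D : Emb Q) (h2 : (2 : F) ≠ 0)

theorem rank_zero_of {R : Type} [CommRing R] (φ : R →+* F) {N : M7 R} (h : N = 0) : (N.map φ).rank = 0 := by
  have h1 : (N.map φ) = 0 := by rw [h]; ext i j; simp
  rw [h1, Matrix.rank_zero]

include h2 in
theorem gp (a b : Fin 7 → ℤ) (h1 : qq a * qq a = 1) (h3 : qq b = qq a) :
    D.Good (Int.castRingHom F) (mm (Mr a) (Mr b)) :=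
  D.good_pair (Int.castRingHom F) (Emb.pair_odd h2 Q) a b h1 h3

def Bu2 : M7 ℤ := !![0, 0, 0, 0, 0, 0, 0; 0, 0, 0, 0, 0, 0, 0; 0, 0, 0, 0, 0, 0, 0; 0, 0, 0, 0, 0, 0, 0; 0, 0, 0, 0, -1, 0, -1; 0, 0, 0, 0, 0, 0, 0; 0, 0, 0, 0, 1, 0, 0]

include h2 in
theorem Bu2_good : D.Good (Int.castRingHom F) Bu2 := by
  have h : Bu2 = (mm (Mr ![0, 0, 0, 0, 0, 0, 1]) (Mr ![0, 0, 0, 0, 1, 0, 1])) := by decide +kernel
  rw [h]
  exact (gp D h2 ![0, 0, 0, 0, 0, 0, 1] ![0, 0, 0, 0, 1, 0, 1] (by decide) (by decide))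

def Bu1 : M7 ℤ := !![0, 0, -1, 0, 0, 0, 0; 0, 0, 0, 0, 0, 0, 0; 1, 0, 0, 0, 0, 0, 0; 0, 0, 0, 0, 0, 0, 0; 0, 0, 0, 0, 0, 0, 0; 0, 0, 0, 0, 0, 0, 0; 0, 0, 0, 0, 0, 0, 0]

include h2 in
theorem Bu1_good : D.Good (Int.castRingHom F) Bu1 := by
  have h : Bu1 = (mm (mm (Mr ![0, 0, 1, 0, 0, 0, 1]) (Mr ![1, 0, 1, 0, 0, 0, 1])) (mm (Mr ![0, 0, 0, 0, 0, 0, 1]) (Mr ![-1, 0, 0, 0, 0, 0, 1]))) := by decide +kernel
  rw [h]
  exact (Emb.Good.mul (Int.castRingHom F) D (gp D h2 ![0, 0, 1, 0, 0, 0, 1] ![1, 0, 1, 0, 0, 0, 1] (by decide) (by decide)) (gp D h2 ![0, 0, 0, 0, 0, 0, 1] ![-1, 0, 0, 0, 0, 0, 1] (by decide) (by decide)))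

def Ba : M7 ℤ := !![0, 0, 0, -1, 0, 0, 0; 0, 0, 0, 0, 0, 0, 0; 0, 0, 0, 0, 0, 0, 0; 1, 0, 0, 0, 0, 0, 0; 0, 0, 0, 0, 0, 0, 0; 0, 0, 0, 0, 0, 0, 0; 0, 0, 0, 0, 0, 0, 0]

include h2 in
theorem Ba_good : D.Good (Int.castRingHom F) Ba := by
  have h : Ba = (mm (mm (Mr ![0, 0, 0, 1, 0, 0, 1]) (Mr ![1, 0, 0, 1, 0, 0, 1])) (mm (Mr ![0, 0, 0, 0, 0, 0, 1]) (Mr ![-1, 0, 0, 0, 0, 0, 1]))) := by decide +kernel
  rw [h]
  exact (Emb.Good.mul (Int.castRingHom F) D (gp D h2 ![0, 0, 0, 1, 0, 0, 1] ![1, 0, 0, 1, 0, 0, 1] (by decide) (by decide)) (gp D h2 ![0, 0, 0, 0, 0, 0, 1] ![-1, 0, 0, 0, 0, 0, 1] (by decide) (by decide)))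

def Bb : M7 ℤ := !![0, 0, 0, 0, 0, 0, 0; 0, 0, 0, 0, 0, 0, 0; 0, 0, 0, 0, 0, -1, 0; 0, 0, 0, 0, 0, 0, 0; 0, 0, 0, 0, 0, 0, 0; 0, 0, 1, 0, 0, 0, 0; 0, 0, 0, 0, 0, 0, 0]

include h2 in
theorem Bb_good : D.Good (Int.castRingHom F) Bb := by
  have h : Bb = (mm (mm (Mr ![0, 0, 0, 0, 0, 1, 1]) (Mr ![0, 0, 1, 0, 0, 1, 1])) (mm (Mr ![0, 0, 0, 0, 0, 0, 1]) (Mr ![0, 0, -1, 0, 0, 0, 1]))) := by decide +kernel
  rw [h]
  exact (Emb.Good.mul (Int.castRingHom F) D (gp D h2 ![0, 0, 0, 0, 0, 1, 1] ![0, 0, 1, 0, 0, 1, 1] (by decide) (by decide)) (gp D h2 ![0, 0, 0, 0, 0, 0, 1] ![0, 0, -1, 0, 0, 0, 1] (by decide) (by decide)))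

def Bc : M7 ℤ := !![0, 0, 0, 0, 0, 0, 0; 0, 0, 0, 0, 0, 0, 0; 0, 0, -1, 0, 0, 0, -1; 0, 0, 0, 0, 0, 0, 0; 0, 0, 0, 0, 0, 0, 0; 0, 0, 0, 0, 0, 0, 0; 0, 0, 1, 0, 0, 0, 0]

include h2 in
theorem Bc_good : D.Good (Int.castRingHom F) Bc := by
  have h : Bc = (mm (Mr ![0, 0, 0, 0, 0, 0, 1]) (Mr ![0, 0, 1, 0, 0, 0, 1])) := by decide +kernel
  rw [h]
  exact (gp D h2 ![0, 0, 0, 0, 0, 0, 1] ![0, 0, 1, 0, 0, 0, 1] (by decide) (by decide))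

def BJ : M7 ℤ := !![0, -2, 0, 0, 0, 0, 0; -2, 0, 0, 0, 0, 0, 0; 0, 0, 0, -2, 0, 0, 0; 0, 0, -2, 0, 0, 0, 0; 0, 0, 0, 0, 0, 0, 0; 0, 0, 0, 0, 0, 0, 0; 0, 0, 0, 0, 0, 0, 0]

include h2 in
theorem BJ_good : D.Good (Int.castRingHom F) BJ := by
  have h : BJ = (mm (mm (Mr ![1, 1, 0, 0, 0, 0, 0]) (Mr ![0, 0, 1, 1, 0, 0, 0])) (mm (Mr ![1, -1, 0, 0, 0, 0, 0]) (Mr ![0, 0, 1, -1, 0, 0, 0]))) := by decide +kernel
  rw [h]
  exact (Emb.Good.mul (Int.castRingHom F) D (gp D h2 ![1, 1, 0, 0, 0, 0, 0] ![0, 0, 1, 1, 0, 0, 0] (by decide) (by decide)) (gp D h2 ![1, -1, 0, 0, 0, 0, 0] ![0, 0, 1, -1, 0, 0, 0] (by decide) (by decide)))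

def Bk : M7 ℤ := !![-1, 0, -1, -1, 0, 0, 0; 0, 0, 0, 0, 0, 0, 0; 1, 0, 0, 0, 0, 0, 0; 1, 0, 0, 0, 0, 0, 0; 0, 0, 0, 0, 0, 0, 0; 0, 0, 0, 0, 0, 0, 0; 0, 0, 0, 0, 0, 0, 0]

include h2 in
theorem Bk_good : D.Good (Int.castRingHom F) Bk := by
  have h : Bk = (mm (Mr ![0, 0, 1, 1, 0, 0, 0]) (Mr ![1, 0, 1, 1, 0, 0, 0])) := by decide +kernel
  rw [h]
  exact (gp D h2 ![0, 0, 1, 1, 0, 0, 0] ![1, 0, 1, 1, 0, 0, 0] (by decide) (by decide))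

def Eu1 : M7 ℤ := !![0, 0, -1, 0, 0, 0, 0; 0, 0, 0, 0, 0, 0, 0; 1, 0, 0, 0, 0, 0, 0; 0, 0, 0, 0, 0, 0, 0; 0, 0, 0, 0, 0, 0, 0; 0, 0, 0, 0, 0, 0, 0; 0, 0, 0, 0, 0, 0, 0]

include h2 in
theorem Eu1_r1 : ((mm Eu1 Eu1).map (Int.castRingHom F)).rank = 2 :=
  rank_of_cert (Int.castRingHom F) (r := 2)
    !![-2, 0; 0, 0; 0, 2; 0, 0; 0, 0; 0, 0; 0, 0]
    !![0, 0, 1, 0, 0, 0, 0; 1, 0, 0, 0, 0, 0, 0]
    !![-1, 0, 0, 0, 0, 0, 0; 0, 0, 1, 0, 0, 0, 0]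
    !![0, 1; 0, 0; 1, 0; 0, 0; 0, 0; 0, 0; 0, 0]
    (a := 2) (b := 1) (c := 1) (two_pow_ne h2 1 (by norm_num)) (two_pow_ne h2 0 (by norm_num)) (two_pow_ne h2 0 (by norm_num))
    (by decide +kernel) (by decide +kernel) (by decide +kernel)

theorem Eu1_r2 : ((mm Eu1 Eu1 * GG * mm Eu1 Eu1).map (Int.castRingHom F)).rank = 0 :=
  rank_zero_of _ (by decide +kernel)

include D h2 in
theorem Eu1_el {p : ℕ} [CharP F p] (hQ : (polarBilin Q).Nondegenerate) (hn : 3 ≤ Fintype.card ι)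
    (hs : ∃ u : ι → F, u ≠ 0 ∧ Q u = 0) : OddEl Q p (2, 0, true) := by
  have hg : D.Good (Int.castRingHom F) Eu1 := by
    have h : Eu1 = Bu1 := by decide +kernel
    rw [h]
    exact (Bu1_good D h2)
  refine oddEl_of D hQ hn hs Eu1 hg (Eu1_r1 h2) (Eu1_r2) ![1, 0, 0, 0, 0, 0, 0] (by decide +kernel) 2 ?_ ?_ ?_
  · have h : (Eu1 *ᵥ ![1, 0, 0, 0, 0, 0, 0]) 2 = 1 := by decide +kernel
    rw [h]
    exact two_pow_ne h2 0 (by norm_num)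
  · intro _
    decide +kernel
  · intro h
    exact absurd h (by decide)

def Eu2 : M7 ℤ := !![0, 0, 0, 0, 0, 0, 0; 0, 0, 0, 0, 0, 0, 0; 0, 0, 0, 0, 0, 0, 0; 0, 0, 0, 0, 0, 0, 0; 0, 0, 0, 0, -1, 0, -1; 0, 0, 0, 0, 0, 0, 0; 0, 0, 0, 0, 1, 0, 0]

include h2 in
theorem Eu2_r1 : ((mm Eu2 Eu2).map (Int.castRingHom F)).rank = 2 :=
  rank_of_cert (Int.castRingHom F) (r := 2)
    !![0, 0; 0, 0; 0, 0; 0, 0; -4, -2; 0, 0; 2, 0]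
    !![0, 0, 0, 0, 1, 0, 0; 0, 0, 0, 0, 0, 0, 1]
    !![0, 0, 0, 0, 0, 0, 1; 0, 0, 0, 0, -1, 0, -2]
    !![0, 0; 0, 0; 0, 0; 0, 0; 1, 0; 0, 0; 0, 1]
    (a := 2) (b := 1) (c := 1) (two_pow_ne h2 1 (by norm_num)) (two_pow_ne h2 0 (by norm_num)) (two_pow_ne h2 0 (by norm_num))
    (by decide +kernel) (by decide +kernel) (by decide +kernel)

include h2 in
theorem Eu2_r2 : ((mm Eu2 Eu2 * GG * mm Eu2 Eu2).map (Int.castRingHom F)).rank = 1 :=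
  rank_of_cert (Int.castRingHom F) (r := 1)
    !![0; 0; 0; 0; -8; 0; 0]
    !![0, 0, 0, 0, 1, 0, 0]
    !![0, 0, 0, 0, -1, 0, 0]
    !![0; 0; 0; 0; 1; 0; 0]
    (a := 8) (b := 1) (c := 1) (two_pow_ne h2 3 (by norm_num)) (two_pow_ne h2 0 (by norm_num)) (two_pow_ne h2 0 (by norm_num))
    (by decide +kernel) (by decide +kernel) (by decide +kernel)

include D h2 in
theorem Eu2_el {p : ℕ} [CharP F p] (hQ : (polarBilin Q).Nondegenerate) (hn : 3 ≤ Fintype.card ι)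
    (hs : ∃ u : ι → F, u ≠ 0 ∧ Q u = 0) : OddEl Q p (2, 1, true) := by
  have hg : D.Good (Int.castRingHom F) Eu2 := by
    have h : Eu2 = Bu2 := by decide +kernel
    rw [h]
    exact (Bu2_good D h2)
  refine oddEl_of D hQ hn hs Eu2 hg (Eu2_r1 h2) (Eu2_r2 h2) ![0, 0, 0, 0, 0, 0, 1] (by decide +kernel) 4 ?_ ?_ ?_
  · have h : (Eu2 *ᵥ ![0, 0, 0, 0, 0, 0, 1]) 4 = -1 := by decide +kernel
    rw [h]
    rw [show (-1 : ℤ) = -(1) from rfl, map_neg]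
    exact neg_ne_zero.2 (two_pow_ne h2 0 (by norm_num))
  · intro _
    decide +kernel
  · intro h
    exact absurd h (by decide)

def Eu3 : M7 ℤ := !![0, 0, -1, 0, 0, 0, 0; 0, 0, 0, 0, 0, 0, 0; 1, 0, 0, 0, 0, 0, 0; 0, 0, 0, 0, 0, 0, 0; 0, 0, 0, 0, -1, 0, -1; 0, 0, 0, 0, 0, 0, 0; 0, 0, 0, 0, 1, 0, 0]

include h2 in
theorem Eu3_r1 : ((mm Eu3 Eu3).map (Int.castRingHom F)).rank = 4 :=
  rank_of_cert (Int.castRingHom F) (r := 4)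
    !![-2, 0, 0, 0; 0, 0, 0, 0; 0, 2, 0, 0; 0, 0, 0, 0; 0, 0, -4, -2; 0, 0, 0, 0; 0, 0, 2, 0]
    !![0, 0, 1, 0, 0, 0, 0; 1, 0, 0, 0, 0, 0, 0; 0, 0, 0, 0, 1, 0, 0; 0, 0, 0, 0, 0, 0, 1]
    !![-1, 0, 0, 0, 0, 0, 0; 0, 0, 1, 0, 0, 0, 0; 0, 0, 0, 0, 0, 0, 1; 0, 0, 0, 0, -1, 0, -2]
    !![0, 1, 0, 0; 0, 0, 0, 0; 1, 0, 0, 0; 0, 0, 0, 0; 0, 0, 1, 0; 0, 0, 0, 0; 0, 0, 0, 1]
    (a := 2) (b := 1) (c := 1) (two_pow_ne h2 1 (by norm_num)) (two_pow_ne h2 0 (by norm_num)) (two_pow_ne h2 0 (by norm_num))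
    (by decide +kernel) (by decide +kernel) (by decide +kernel)

include h2 in
theorem Eu3_r2 : ((mm Eu3 Eu3 * GG * mm Eu3 Eu3).map (Int.castRingHom F)).rank = 1 :=
  rank_of_cert (Int.castRingHom F) (r := 1)
    !![0; 0; 0; 0; -8; 0; 0]
    !![0, 0, 0, 0, 1, 0, 0]
    !![0, 0, 0, 0, -1, 0, 0]
    !![0; 0; 0; 0; 1; 0; 0]
    (a := 8) (b := 1) (c := 1) (two_pow_ne h2 3 (by norm_num)) (two_pow_ne h2 0 (by norm_num)) (two_pow_ne h2 0 (by norm_num))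
    (by decide +kernel) (by decide +kernel) (by decide +kernel)

include D h2 in
theorem Eu3_el {p : ℕ} [CharP F p] (hQ : (polarBilin Q).Nondegenerate) (hn : 3 ≤ Fintype.card ι)
    (hs : ∃ u : ι → F, u ≠ 0 ∧ Q u = 0) : OddEl Q p (4, 1, true) := by
  have hg : D.Good (Int.castRingHom F) Eu3 := by
    have h : Eu3 = (mm Bu1 Bu2) := by decide +kernel
    rw [h]
    exact (Emb.Good.mul (Int.castRingHom F) D (Bu1_good D h2) (Bu2_good D h2))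
  refine oddEl_of D hQ hn hs Eu3 hg (Eu3_r1 h2) (Eu3_r2 h2) ![1, 0, 0, 0, 0, 0, 0] (by decide +kernel) 2 ?_ ?_ ?_
  · have h : (Eu3 *ᵥ ![1, 0, 0, 0, 0, 0, 0]) 2 = 1 := by decide +kernel
    rw [h]
    exact two_pow_ne h2 0 (by norm_num)
  · intro _
    decide +kernel
  · intro h
    exact absurd h (by decide)

def Eu4 : M7 ℤ := !![0, 0, 0, -1, 0, 1, 0; 0, 0, 0, 0, 0, 0, 0; 0, 0, 0, 0, 0, -1, 0; 1, 0, 0, 0, 0, 0, 0; 0, 0, 0, 0, 0, 0, 0; 0, 0, 1, 0, 0, 0, 0; 0, 0, 0, 0, 0, 0, 0]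

include h2 in
theorem Eu4_r1 : ((mm Eu4 Eu4).map (Int.castRingHom F)).rank = 4 :=
  rank_of_cert (Int.castRingHom F) (r := 4)
    !![-2, 3, 0, 0; 0, 0, 0, 0; 0, -2, 0, 0; 0, 0, 2, 0; 0, 0, 0, 0; 0, 0, 1, 2; 0, 0, 0, 0]
    !![0, 0, 0, 1, 0, 0, 0; 0, 0, 0, 0, 0, 1, 0; 1, 0, 0, 0, 0, 0, 0; 0, 0, 1, 0, 0, 0, 0]
    !![-2, 0, -3, 0, 0, 0, 0; 0, 0, -2, 0, 0, 0, 0; 0, 0, 0, 2, 0, 0, 0; 0, 0, 0, -1, 0, 2, 0]
    !![0, 0, 1, 0; 0, 0, 0, 0; 0, 0, 0, 1; 1, 0, 0, 0; 0, 0, 0, 0; 0, 1, 0, 0; 0, 0, 0, 0]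
    (a := 4) (b := 1) (c := 1) (two_pow_ne h2 2 (by norm_num)) (two_pow_ne h2 0 (by norm_num)) (two_pow_ne h2 0 (by norm_num))
    (by decide +kernel) (by decide +kernel) (by decide +kernel)

include h2 in
theorem Eu4_r2 : ((mm Eu4 Eu4 * GG * mm Eu4 Eu4).map (Int.castRingHom F)).rank = 2 :=
  rank_of_cert (Int.castRingHom F) (r := 2)
    !![4, 0; 0, 0; 0, 0; 0, 0; 0, 0; 0, 4; 0, 0]
    !![0, 0, 0, 0, 0, 1, 0; 1, 0, 0, 0, 0, 0, 0]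
    !![1, 0, 0, 0, 0, 0, 0; 0, 0, 0, 0, 0, 1, 0]
    !![0, 1; 0, 0; 0, 0; 0, 0; 0, 0; 1, 0; 0, 0]
    (a := 4) (b := 1) (c := 1) (two_pow_ne h2 2 (by norm_num)) (two_pow_ne h2 0 (by norm_num)) (two_pow_ne h2 0 (by norm_num))
    (by decide +kernel) (by decide +kernel) (by decide +kernel)

include D h2 in
theorem Eu4_el {p : ℕ} [CharP F p] (hQ : (polarBilin Q).Nondegenerate) (hn : 3 ≤ Fintype.card ι)
    (hs : ∃ u : ι → F, u ≠ 0 ∧ Q u = 0) : OddEl Q p (4, 2, true) := by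
  have hg : D.Good (Int.castRingHom F) Eu4 := by
    have h : Eu4 = (mm Ba Bb) := by decide +kernel
    rw [h]
    exact (Emb.Good.mul (Int.castRingHom F) D (Ba_good D h2) (Bb_good D h2))
  refine oddEl_of D hQ hn hs Eu4 hg (Eu4_r1 h2) (Eu4_r2 h2) ![0, 0, 1, 0, 0, 0, 0] (by decide +kernel) 5 ?_ ?_ ?_
  · have h : (Eu4 *ᵥ ![0, 0, 1, 0, 0, 0, 0]) 5 = 1 := by decide +kernel
    rw [h]
    exact two_pow_ne h2 0 (by norm_num)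
  · intro _
    decide +kernel
  · intro h
    exact absurd h (by decide)

def Eu5 : M7 ℤ := !![0, 0, 1, -1, 0, 0, 1; 0, 0, 0, 0, 0, 0, 0; 0, 0, -1, 0, 0, 0, -1; 1, 0, 0, 0, 0, 0, 0; 0, 0, 0, 0, 0, 0, 0; 0, 0, 0, 0, 0, 0, 0; 0, 0, 1, 0, 0, 0, 0]

include h2 in
theorem Eu5_r1 : ((mm Eu5 Eu5).map (Int.castRingHom F)).rank = 4 :=
  rank_of_cert (Int.castRingHom F) (r := 4)
    !![1, 5, -2, 3; 0, 0, 0, 0; -1, -4, 0, -2; 2, 0, 0, 0; 0, 0, 0, 0; 0, 0, 0, 0; 1, 2, 0, 0]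
    !![1, 0, 0, 0, 0, 0, 0; 0, 0, 1, 0, 0, 0, 0; 0, 0, 0, 1, 0, 0, 0; 0, 0, 0, 0, 0, 0, 1]
    !![0, 0, 0, 2, 0, 0, 0; 0, 0, 0, -1, 0, 0, 2; -2, 0, -3, 0, 0, 0, -1; 0, 0, -2, 1, 0, 0, -4]
    !![1, 0, 0, 0; 0, 0, 0, 0; 0, 1, 0, 0; 0, 0, 1, 0; 0, 0, 0, 0; 0, 0, 0, 0; 0, 0, 0, 1]
    (a := 4) (b := 1) (c := 1) (two_pow_ne h2 2 (by norm_num)) (two_pow_ne h2 0 (by norm_num)) (two_pow_ne h2 0 (by norm_num))
    (by decide +kernel) (by decide +kernel) (by decide +kernel)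

include h2 in
theorem Eu5_r2 : ((mm Eu5 Eu5 * GG * mm Eu5 Eu5).map (Int.castRingHom F)).rank = 3 :=
  rank_of_cert (Int.castRingHom F) (r := 3)
    !![4, 20, 18; 0, 0, 0; 0, -8, -12; 0, 0, 0; 0, 0, 0; 0, 0, 0; 0, 0, 4]
    !![0, 0, 0, 0, 0, 0, 1; 0, 0, 1, 0, 0, 0, 0; 1, 0, 0, 0, 0, 0, 0]
    !![2, 0, 5, 0, 0, 0, 6; 0, 0, -1, 0, 0, 0, -3; 0, 0, 0, 0, 0, 0, 2]
    !![0, 0, 1; 0, 0, 0; 0, 1, 0; 0, 0, 0; 0, 0, 0; 0, 0, 0; 1, 0, 0]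
    (a := 8) (b := 1) (c := 1) (two_pow_ne h2 3 (by norm_num)) (two_pow_ne h2 0 (by norm_num)) (two_pow_ne h2 0 (by norm_num))
    (by decide +kernel) (by decide +kernel) (by decide +kernel)

include D h2 in
theorem Eu5_el {p : ℕ} [CharP F p] (hQ : (polarBilin Q).Nondegenerate) (hn : 3 ≤ Fintype.card ι)
    (hs : ∃ u : ι → F, u ≠ 0 ∧ Q u = 0) : OddEl Q p (4, 3, true) := by
  have hg : D.Good (Int.castRingHom F) Eu5 := by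
    have h : Eu5 = (mm Ba Bc) := by decide +kernel
    rw [h]
    exact (Emb.Good.mul (Int.castRingHom F) D (Ba_good D h2) (Bc_good D h2))
  refine oddEl_of D hQ hn hs Eu5 hg (Eu5_r1 h2) (Eu5_r2 h2) ![0, 0, 0, 1, 0, 0, 0] (by decide +kernel) 0 ?_ ?_ ?_
  · have h : (Eu5 *ᵥ ![0, 0, 0, 1, 0, 0, 0]) 0 = -1 := by decide +kernel
    rw [h]
    rw [show (-1 : ℤ) = -(1) from rfl, map_neg]
    exact neg_ne_zero.2 (two_pow_ne h2 0 (by norm_num))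
  · intro _
    decide +kernel
  · intro h
    exact absurd h (by decide)

def Eu6 : M7 ℤ := !![0, 0, 0, -1, -1, 1, -1; 0, 0, 0, 0, 0, 0, 0; 0, 0, 0, 0, 1, -1, 1; 1, 0, 0, 0, 0, 0, 0; 0, 0, 0, 0, -1, 0, -1; 0, 0, 1, 0, 0, 0, 0; 0, 0, 0, 0, 1, 0, 0]

include h2 in
theorem Eu6_r1 : ((mm Eu6 Eu6).map (Int.castRingHom F)).rank = 6 :=
  rank_of_cert (Int.castRingHom F) (r := 6)
    !![-1, -2, 0, -6, 3, -4; 0, 0, 0, 0, 0, 0; 1, 0, 0, 5, -2, 3; 0, 0, 2, 0, 0, 0; -1, 0, 0, -4, 0, -2; 2, 0, 1, 0, 0, 0; 1, 0, 0, 2, 0, 0]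
    !![0, 0, 1, 0, 0, 0, 0; 0, 0, 0, 1, 0, 0, 0; 1, 0, 0, 0, 0, 0, 0; 0, 0, 0, 0, 1, 0, 0; 0, 0, 0, 0, 0, 1, 0; 0, 0, 0, 0, 0, 0, 1]
    !![0, 0, 0, -2, 0, 4, 0; -4, 0, -6, 0, -1, 0, 1; 0, 0, 0, 4, 0, 0, 0; 0, 0, 0, 1, 0, -2, 4; 0, 0, -4, 0, -6, 0, -2; 0, 0, 0, -1, -4, 2, -8]
    !![0, 0, 1, 0, 0, 0; 0, 0, 0, 0, 0, 0; 1, 0, 0, 0, 0, 0; 0, 1, 0, 0, 0, 0; 0, 0, 0, 1, 0, 0; 0, 0, 0, 0, 1, 0; 0, 0, 0, 0, 0, 1]
    (a := 8) (b := 1) (c := 1) (two_pow_ne h2 3 (by norm_num)) (two_pow_ne h2 0 (by norm_num)) (two_pow_ne h2 0 (by norm_num))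
    (by decide +kernel) (by decide +kernel) (by decide +kernel)

include h2 in
theorem Eu6_r2 : ((mm Eu6 Eu6 * GG * mm Eu6 Eu6).map (Int.castRingHom F)).rank = 5 :=
  rank_of_cert (Int.castRingHom F) (r := 5)
    !![-8, 4, -12, -38, -25; 0, 0, 0, 0, 0; 7, 0, 4, 20, 18; 0, 0, 0, 0, 0; -6, 0, 0, -8, -12; 4, 0, 0, 0, 0; 4, 0, 0, 0, 4]
    !![1, 0, 0, 0, 0, 0, 0; 0, 0, 0, 0, 0, 1, 0; 0, 0, 0, 0, 0, 0, 1; 0, 0, 0, 0, 1, 0, 0; 0, 0, 1, 0, 0, 0, 0]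
    !![0, 0, 0, 0, 0, 8, 0; 8, 0, 24, 0, 22, -1, 8; 0, 0, 8, 0, 20, -8, 24; 0, 0, 0, 0, -4, 6, -12; 0, 0, 0, 0, 0, -8, 8]
    !![1, 0, 0, 0, 0; 0, 0, 0, 0, 0; 0, 0, 0, 0, 1; 0, 0, 0, 0, 0; 0, 0, 0, 1, 0; 0, 1, 0, 0, 0; 0, 0, 1, 0, 0]
    (a := 32) (b := 1) (c := 1) (two_pow_ne h2 5 (by norm_num)) (two_pow_ne h2 0 (by norm_num)) (two_pow_ne h2 0 (by norm_num))
    (by decide +kernel) (by decide +kernel) (by decide +kernel)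

include D h2 in
theorem Eu6_el {p : ℕ} [CharP F p] (hQ : (polarBilin Q).Nondegenerate) (hn : 3 ≤ Fintype.card ι)
    (hs : ∃ u : ι → F, u ≠ 0 ∧ Q u = 0) : OddEl Q p (6, 5, true) := by
  have hg : D.Good (Int.castRingHom F) Eu6 := by
    have h : Eu6 = (mm Ba (mm Bb Bu2)) := by decide +kernel
    rw [h]
    exact (Emb.Good.mul (Int.castRingHom F) D (Ba_good D h2) (Emb.Good.mul (Int.castRingHom F) D (Bb_good D h2) (Bu2_good D h2)))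
  refine oddEl_of D hQ hn hs Eu6 hg (Eu6_r1 h2) (Eu6_r2 h2) ![0, 0, 0, 1, 0, 0, 0] (by decide +kernel) 0 ?_ ?_ ?_
  · have h : (Eu6 *ᵥ ![0, 0, 0, 1, 0, 0, 0]) 0 = -1 := by decide +kernel
    rw [h]
    rw [show (-1 : ℤ) = -(1) from rfl, map_neg]
    exact neg_ne_zero.2 (two_pow_ne h2 0 (by norm_num))
  · intro _
    decide +kernel
  · intro h
    exact absurd h (by decide)

def Em1 : M7 ℤ := !![0, -2, 0, 0, 0, 0, 0; -2, 0, 0, 0, 0, 0, 0; 0, 0, 0, -2, 0, 0, 0; 0, 0, -2, 0, 0, 0, 0; 0, 0, 0, 0, -1, 0, -1; 0, 0, 0, 0, 0, 0, 0; 0, 0, 0, 0, 1, 0, 0]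

include h2 in
theorem Em1_r1 : ((mm Em1 Em1).map (Int.castRingHom F)).rank = 2 :=
  rank_of_cert (Int.castRingHom F) (r := 2)
    !![0, 0; 0, 0; 0, 0; 0, 0; -4, -2; 0, 0; 2, 0]
    !![0, 0, 0, 0, 1, 0, 0; 0, 0, 0, 0, 0, 0, 1]
    !![0, 0, 0, 0, 0, 0, 1; 0, 0, 0, 0, -1, 0, -2]
    !![0, 0; 0, 0; 0, 0; 0, 0; 1, 0; 0, 0; 0, 1]
    (a := 2) (b := 1) (c := 1) (two_pow_ne h2 1 (by norm_num)) (two_pow_ne h2 0 (by norm_num)) (two_pow_ne h2 0 (by norm_num))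
    (by decide +kernel) (by decide +kernel) (by decide +kernel)

include h2 in
theorem Em1_r2 : ((mm Em1 Em1 * GG * mm Em1 Em1).map (Int.castRingHom F)).rank = 1 :=
  rank_of_cert (Int.castRingHom F) (r := 1)
    !![0; 0; 0; 0; -8; 0; 0]
    !![0, 0, 0, 0, 1, 0, 0]
    !![0, 0, 0, 0, -1, 0, 0]
    !![0; 0; 0; 0; 1; 0; 0]
    (a := 8) (b := 1) (c := 1) (two_pow_ne h2 3 (by norm_num)) (two_pow_ne h2 0 (by norm_num)) (two_pow_ne h2 0 (by norm_num))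
    (by decide +kernel) (by decide +kernel) (by decide +kernel)

include D h2 in
theorem Em1_el {p : ℕ} [CharP F p] (hQ : (polarBilin Q).Nondegenerate) (hn : 3 ≤ Fintype.card ι)
    (hs : ∃ u : ι → F, u ≠ 0 ∧ Q u = 0) : OddEl Q p (2, 1, false) := by
  have hg : D.Good (Int.castRingHom F) Em1 := by
    have h : Em1 = (mm BJ Bu2) := by decide +kernel
    rw [h]
    exact (Emb.Good.mul (Int.castRingHom F) D (BJ_good D h2) (Bu2_good D h2))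
  refine oddEl_of D hQ hn hs Em1 hg (Em1_r1 h2) (Em1_r2 h2) ![0, 0, 0, 0, 0, 0, 1] (by decide +kernel) 4 ?_ ?_ ?_
  · have h : (Em1 *ᵥ ![0, 0, 0, 0, 0, 0, 1]) 4 = -1 := by decide +kernel
    rw [h]
    rw [show (-1 : ℤ) = -(1) from rfl, map_neg]
    exact neg_ne_zero.2 (two_pow_ne h2 0 (by norm_num))
  · intro h
    exact absurd h (by decide)
  · intro _
    exact ⟨by decide +kernel, by decide +kernel⟩

def Em3 : M7 ℤ := !![0, -2, 1, 0, 0, 0, 0; -2, 0, 0, 0, 0, 0, 0; -1, 0, 0, -2, 0, 0, 0; 0, 0, -2, 0, 0, 0, 0; 0, 0, 0, 0, -1, 0, -1; 0, 0, 0, 0, 0, 0, 0; 0, 0, 0, 0, 1, 0, 0]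

include h2 in
theorem Em3_r1 : ((mm Em3 Em3).map (Int.castRingHom F)).rank = 4 :=
  rank_of_cert (Int.castRingHom F) (r := 4)
    !![-2, 0, 0, 0; 0, 0, 0, 0; 0, 2, 0, 0; 0, 0, 0, 0; 0, 0, -4, -2; 0, 0, 0, 0; 0, 0, 2, 0]
    !![0, 0, 1, 0, 0, 0, 0; 1, 0, 0, 0, 0, 0, 0; 0, 0, 0, 0, 1, 0, 0; 0, 0, 0, 0, 0, 0, 1]
    !![-1, 0, 0, 0, 0, 0, 0; 0, 0, 1, 0, 0, 0, 0; 0, 0, 0, 0, 0, 0, 1; 0, 0, 0, 0, -1, 0, -2]
    !![0, 1, 0, 0; 0, 0, 0, 0; 1, 0, 0, 0; 0, 0, 0, 0; 0, 0, 1, 0; 0, 0, 0, 0; 0, 0, 0, 1]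
    (a := 2) (b := 1) (c := 1) (two_pow_ne h2 1 (by norm_num)) (two_pow_ne h2 0 (by norm_num)) (two_pow_ne h2 0 (by norm_num))
    (by decide +kernel) (by decide +kernel) (by decide +kernel)

include h2 in
theorem Em3_r2 : ((mm Em3 Em3 * GG * mm Em3 Em3).map (Int.castRingHom F)).rank = 1 :=
  rank_of_cert (Int.castRingHom F) (r := 1)
    !![0; 0; 0; 0; -8; 0; 0]
    !![0, 0, 0, 0, 1, 0, 0]
    !![0, 0, 0, 0, -1, 0, 0]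
    !![0; 0; 0; 0; 1; 0; 0]
    (a := 8) (b := 1) (c := 1) (two_pow_ne h2 3 (by norm_num)) (two_pow_ne h2 0 (by norm_num)) (two_pow_ne h2 0 (by norm_num))
    (by decide +kernel) (by decide +kernel) (by decide +kernel)

include D h2 in
theorem Em3_el {p : ℕ} [CharP F p] (hQ : (polarBilin Q).Nondegenerate) (hn : 3 ≤ Fintype.card ι)
    (hs : ∃ u : ι → F, u ≠ 0 ∧ Q u = 0) : OddEl Q p (4, 1, false) := by
  have hg : D.Good (Int.castRingHom F) Em3 := by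
    have h : Em3 = (mm BJ (mm Bu1 Bu2)) := by decide +kernel
    rw [h]
    exact (Emb.Good.mul (Int.castRingHom F) D (BJ_good D h2) (Emb.Good.mul (Int.castRingHom F) D (Bu1_good D h2) (Bu2_good D h2)))
  refine oddEl_of D hQ hn hs Em3 hg (Em3_r1 h2) (Em3_r2 h2) ![0, 0, 0, 0, 0, 0, 1] (by decide +kernel) 4 ?_ ?_ ?_
  · have h : (Em3 *ᵥ ![0, 0, 0, 0, 0, 0, 1]) 4 = -1 := by decide +kernel
    rw [h]
    rw [show (-1 : ℤ) = -(1) from rfl, map_neg]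
    exact neg_ne_zero.2 (two_pow_ne h2 0 (by norm_num))
  · intro h
    exact absurd h (by decide)
  · intro _
    exact ⟨by decide +kernel, by decide +kernel⟩

def Em5 : M7 ℤ := !![1, -2, 1, 1, 0, 0, 0; -2, 0, 0, 0, 0, 0, 0; -1, 0, 0, -2, 0, 0, 0; -1, 0, -2, 0, 0, 0, 0; 0, 0, 0, 0, -1, 0, -1; 0, 0, 0, 0, 0, 0, 0; 0, 0, 0, 0, 1, 0, 0]

include h2 in
theorem Em5_r1 : ((mm Em5 Em5).map (Int.castRingHom F)).rank = 4 :=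
  rank_of_cert (Int.castRingHom F) (r := 4)
    !![-4, -2, 0, 0; 0, 0, 0, 0; 2, 0, 0, 0; 2, 0, 0, 0; 0, 0, -4, -2; 0, 0, 0, 0; 0, 0, 2, 0]
    !![1, 0, 0, 0, 0, 0, 0; 0, 0, 1, 1, 0, 0, 0; 0, 0, 0, 0, 1, 0, 0; 0, 0, 0, 0, 0, 0, 1]
    !![0, 0, 1, 0, 0, 0, 0; -1, 0, -2, 0, 0, 0, 0; 0, 0, 0, 0, 0, 0, 1; 0, 0, 0, 0, -1, 0, -2]
    !![1, 0, 0, 0; 0, 0, 0, 0; 0, 1, 0, 0; 0, 0, 0, 0; 0, 0, 1, 0; 0, 0, 0, 0; 0, 0, 0, 1]
    (a := 2) (b := 1) (c := 1) (two_pow_ne h2 1 (by norm_num)) (two_pow_ne h2 0 (by norm_num)) (two_pow_ne h2 0 (by norm_num))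
    (by decide +kernel) (by decide +kernel) (by decide +kernel)

include h2 in
theorem Em5_r2 : ((mm Em5 Em5 * GG * mm Em5 Em5).map (Int.castRingHom F)).rank = 2 :=
  rank_of_cert (Int.castRingHom F) (r := 2)
    !![-8, 0; 0, 0; 0, 0; 0, 0; 0, -8; 0, 0; 0, 0]
    !![1, 0, 0, 0, 0, 0, 0; 0, 0, 0, 0, 1, 0, 0]
    !![-1, 0, 0, 0, 0, 0, 0; 0, 0, 0, 0, -1, 0, 0]
    !![1, 0; 0, 0; 0, 0; 0, 0; 0, 1; 0, 0; 0, 0]
    (a := 8) (b := 1) (c := 1) (two_pow_ne h2 3 (by norm_num)) (two_pow_ne h2 0 (by norm_num)) (two_pow_ne h2 0 (by norm_num))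
    (by decide +kernel) (by decide +kernel) (by decide +kernel)

include D h2 in
theorem Em5_el {p : ℕ} [CharP F p] (hQ : (polarBilin Q).Nondegenerate) (hn : 3 ≤ Fintype.card ι)
    (hs : ∃ u : ι → F, u ≠ 0 ∧ Q u = 0) : OddEl Q p (4, 2, false) := by
  have hg : D.Good (Int.castRingHom F) Em5 := by
    have h : Em5 = (mm BJ (mm Bk Bu2)) := by decide +kernel
    rw [h]
    exact (Emb.Good.mul (Int.castRingHom F) D (BJ_good D h2) (Emb.Good.mul (Int.castRingHom F) D (Bk_good D h2) (Bu2_good D h2)))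
  refine oddEl_of D hQ hn hs Em5 hg (Em5_r1 h2) (Em5_r2 h2) ![0, 0, 0, 0, 0, 0, 1] (by decide +kernel) 4 ?_ ?_ ?_
  · have h : (Em5 *ᵥ ![0, 0, 0, 0, 0, 0, 1]) 4 = -1 := by decide +kernel
    rw [h]
    rw [show (-1 : ℤ) = -(1) from rfl, map_neg]
    exact neg_ne_zero.2 (two_pow_ne h2 0 (by norm_num))
  · intro h
    exact absurd h (by decide)
  · intro _
    exact ⟨by decide +kernel, by decide +kernel⟩

end Elements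

theorem big_odd_main {p : ℕ} (hp : p.Prime) [CharP F p] (D : Emb Q) (h2 : (2 : F) ≠ 0)
    (hQ : (polarBilin Q).Nondegenerate) (hn : 3 ≤ Fintype.card ι) (hs : ∃ u : ι → F, u ≠ 0 ∧ Q u = 0)
    [Finite (Cfsg.POmega F (⇑Q))] [IsSimpleGroup (Cfsg.POmega F (⇑Q))]
    (hL : Cfsg.IsLieTypeChar p (Cfsg.POmega F (⇑Q))) : Cfsg.Agent.H504.Zeros.Big (Cfsg.POmega F (⇑Q)) := by
  refine big_odd_of hp h2 hQ hn hs hL ![(2, 0, true), (2, 1, true), (4, 1, true), (4, 2, true), (4, 3, true), (6, 5, true), (2, 1, false), (4, 1, false), (4, 2, false)] (by decide) ?_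
  intro i
  fin_cases i
  · exact Eu1_el D h2 hQ hn hs
  · exact Eu2_el D h2 hQ hn hs
  · exact Eu3_el D h2 hQ hn hs
  · exact Eu4_el D h2 hQ hn hs
  · exact Eu5_el D h2 hQ hn hs
  · exact Eu6_el D h2 hQ hn hs
  · exact Em1_el D h2 hQ hn hs
  · exact Em3_el D h2 hQ hn hs
  · exact Em5_el D h2 hQ hn hs

end Cfsg.Agent.H621.Zer
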